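import Cfsg.Prelude.Def_LieTypeDatum
import Cfsg.Agent.AutPSL.Induced
import Cfsg.Agent.Lib.Symplectic.Simple

/-!
Semilinear automorphisms of `PSp_{2m}(F)` and the images of the transvection groups in it.
-/

set_option autoImplicit false

namespace Cfsg.Agent.CG26.AutPSp

open Matrix Symplectic

variable {m : ℕ} {F : Type*} [Field F]

/-- The inclusion of `Sp` in `GL`. -/
def rho (m : ℕ) (F : Type*) [Field F] : Sp m F →* GL (Fin m ⊕ Fin m) F where
  toFun s := ⟨s.1, (s⁻¹ : Sp m F).1, congrArg Subtype.val (mul_inv_cancel s),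
    congrArg Subtype.val (inv_mul_cancel s)⟩
  map_one' := Units.ext rfl
  map_mul' _ _ := Units.ext rfl

theorem rho_coe (s : Sp m F) :
    ((rho m F s : GL (Fin m ⊕ Fin m) F) : Matrix (Fin m ⊕ Fin m) (Fin m ⊕ Fin m) F) = s.1 := rfl

theorem rho_injective : Function.Injective (rho m F) := fun _ _ h =>
  Subtype.ext (congrArg Units.val h)

theorem induced_iff (g : GL (Fin m ⊕ Fin m) F) (σ : F ≃+* F) (β : MulAut (Cfsg.PSp m F)) :
    Cfsg.IsInducedBySemilinearPSp g σ β ↔ AutPSL.Induced (rho m F) g σ β := by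
  constructor
  · intro h s s' hs
    exact h s s' (congrArg Units.val hs)
  · intro h s s' hs
    exact h s s' (Units.ext hs)

/-- A field automorphism applied to a vector. -/
abbrev fv (σ : F ≃+* F) (v : Vec m F) : Vec m F := fun i => σ (v i)

theorem map_mulVec' (σ : F ≃+* F) (A : Matrix (Fin m ⊕ Fin m) (Fin m ⊕ Fin m) F) (v : Vec m F) :
    A.map σ *ᵥ fv σ v = fv σ (A *ᵥ v) :=
  funext fun i => (RingHom.map_mulVec σ.toRingHom A v i).symm

theorem form_fv (σ : F ≃+* F) (u v : Vec m F) :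
    sympForm m F (fv σ u) (fv σ v) = σ (sympForm m F u v) := by
  simp only [sympForm_eq_sum, map_sum, map_sub, map_mul]

/-- Multiplier of a similarity. -/
theorem exists_mult {g : GL (Fin m ⊕ Fin m) F} (hg : g ∈ Cfsg.GSp m F) :
    ∃ μ : F, μ ≠ 0 ∧ ∀ u v : Vec m F, sympForm m F
      ((g : Matrix (Fin m ⊕ Fin m) (Fin m ⊕ Fin m) F) *ᵥ u)
      ((g : Matrix (Fin m ⊕ Fin m) (Fin m ⊕ Fin m) F) *ᵥ v) = μ * sympForm m F u v := by
  obtain ⟨c, hc⟩ := hg
  exact ⟨c, c.ne_zero, hc⟩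

theorem act_mulVec (g : GL (Fin m ⊕ Fin m) F) (σ : F ≃+* F) (s : Sp m F) (v : Vec m F) :
    ((AutPSL.act g σ (rho m F s) : GL (Fin m ⊕ Fin m) F) :
        Matrix (Fin m ⊕ Fin m) (Fin m ⊕ Fin m) F) *ᵥ
      ((g : Matrix (Fin m ⊕ Fin m) (Fin m ⊕ Fin m) F) *ᵥ fv σ v) =
    (g : Matrix (Fin m ⊕ Fin m) (Fin m ⊕ Fin m) F) *ᵥ fv σ (s • v) := by
  rw [AutPSL.act_coe, rho_coe, ← Matrix.mulVec_mulVec, ← Matrix.mulVec_mulVec,
    Matrix.mulVec_mulVec (fv σ v), ← Units.val_mul,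
    inv_mul_cancel, Units.val_one, Matrix.one_mulVec, map_mulVec', smul_eq]

theorem exists_preimage (g : GL (Fin m ⊕ Fin m) F) (σ : F ≃+* F) (x : Vec m F) :
    ∃ v : Vec m F, x = (g : Matrix (Fin m ⊕ Fin m) (Fin m ⊕ Fin m) F) *ᵥ fv σ v := by
  refine ⟨fun i => σ.symm
    (((((g⁻¹ : GL (Fin m ⊕ Fin m) F)) : Matrix (Fin m ⊕ Fin m) (Fin m ⊕ Fin m) F) *ᵥ x) i), ?_⟩
  rw [show fv σ _ = (((g⁻¹ : GL (Fin m ⊕ Fin m) F)) : Matrix (Fin m ⊕ Fin m) (Fin m ⊕ Fin m) F) *ᵥ x
    from funext fun i => σ.apply_symm_apply _]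
  rw [Matrix.mulVec_mulVec, ← Units.val_mul, mul_inv_cancel, Units.val_one, Matrix.one_mulVec]

theorem normalises {g : GL (Fin m ⊕ Fin m) F} (hg : g ∈ Cfsg.GSp m F) (σ : F ≃+* F) :
    AutPSL.Normalises (rho m F) g σ := by
  intro s
  obtain ⟨μ, hμ, hgf⟩ := exists_mult hg
  refine ⟨⟨((AutPSL.act g σ (rho m F s) : GL (Fin m ⊕ Fin m) F) :
    Matrix (Fin m ⊕ Fin m) (Fin m ⊕ Fin m) F), (mem_iff_form _).2 fun u v => ?_⟩, Units.ext rfl⟩
  obtain ⟨u, rfl⟩ := exists_preimage g σ u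
  obtain ⟨v, rfl⟩ := exists_preimage g σ v
  rw [act_mulVec, act_mulVec, hgf, hgf, form_fv, form_fv, sympForm_smul_smul]

theorem exists_act_tv {g : GL (Fin m ⊕ Fin m) F} (hg : g ∈ Cfsg.GSp m F) (σ : F ≃+* F) :
    ∃ μ : F, μ ≠ 0 ∧ ∀ (v : Vec m F) (c : F), AutPSL.act g σ (rho m F (tv v c)) =
      rho m F (tv ((g : Matrix (Fin m ⊕ Fin m) (Fin m ⊕ Fin m) F) *ᵥ fv σ v) (μ⁻¹ * σ c)) := by
  obtain ⟨μ, hμ, hgf⟩ := exists_mult hg
  refine ⟨μ, hμ, fun v c => Units.ext (Matrix.ext_of_mulVec_single fun i => ?_)⟩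
  obtain ⟨x, hx⟩ := exists_preimage g σ (Pi.single i 1)
  rw [hx, act_mulVec, rho_coe, tv_smul]
  show _ = sympTransvection m _ _ *ᵥ _
  rw [sympTransvection_mulVec, hgf, form_fv]
  rw [show fv σ (x + (c * sympForm m F x v) • v) = fv σ x + (σ c * σ (sympForm m F x v)) • fv σ v from
    funext fun i => by simp [fv]]
  rw [Matrix.mulVec_add, Matrix.mulVec_smul]
  congr 2
  field_simp

/-! ### The images of transvection groups in `PSp` -/

/-- The projection. -/
abbrev pi (m : ℕ) (F : Type*) [Field F] : Sp m F →* Cfsg.PSp m F := QuotientGroup.mk' _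

/-- The image of a transvection group. -/
def tbar (v : Vec m F) : Subgroup (Cfsg.PSp m F) := (rootGroup v).map (pi m F)

theorem mem_tbar {v : Vec m F} {x : Cfsg.PSp m F} : x ∈ tbar v ↔ ∃ c, x = pi m F (tv v c) := by
  constructor
  · rintro ⟨_, ⟨c, rfl⟩, rfl⟩; exact ⟨c, rfl⟩
  · rintro ⟨c, rfl⟩; exact ⟨_, ⟨c, rfl⟩, rfl⟩

theorem tv_eq_one {v : Vec m F} (hv : v ≠ 0) {c : F} (h : tv v c = 1) : c = 0 := by
  obtain ⟨y, hy, -⟩ := exists_nonorth hv hv
  have hy' : sympForm m F y v ≠ 0 := by rwa [sympForm_swap, neg_ne_zero]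
  have := congrArg (fun k : Sp m F => k • y) h
  simp only [tv_smul, one_smul, add_eq_left, smul_eq_zero, mul_eq_zero, hy', or_false, hv] at this
  exact this

theorem tv_mem_center {v : Vec m F} (hv : v ≠ 0) {c : F}
    (h : tv v c ∈ Subgroup.center (Sp m F)) : c = 0 := by
  refine tv_eq_one hv ((mem_center_iff.1 h).elim id fun e => eq_of_smul_eq fun x => ?_)
  have h1 := congrArg (fun k : Sp m F => k • v) e
  simp only [tv_smul, sympForm_self, mul_zero, zero_smul, add_zero, negOne_smul] at h1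
  have h2 : (2 : F) = 0 := by
    obtain ⟨i, hi⟩ := Function.ne_iff.1 hv
    have := congrFun h1 i
    simp only [Pi.neg_apply, Pi.zero_apply] at this hi
    exact (mul_eq_zero.1 (show (2 : F) * v i = 0 by linear_combination this)).resolve_right hi
  rw [e, negOne_smul, one_smul, ← neg_one_smul F x,
    show (-1 : F) = 1 by linear_combination -h2, one_smul]

theorem pi_tv_eq_one {v : Vec m F} (hv : v ≠ 0) {c : F} (h : pi m F (tv v c) = 1) : c = 0 :=
  tv_mem_center hv ((QuotientGroup.eq_one_iff _).1 h)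

/-- Equal transvections modulo the centre have proportional centres. -/
theorem eq_smul_of_pi_eq {v w : Vec m F} (hv : v ≠ 0) (hw : w ≠ 0) {c d : F} (hc : c ≠ 0)
    (h : pi m F (tv v c) = pi m F (tv w d)) : ∃ a : F, w = a • v := by
  have hd : d ≠ 0 := fun e => hc (pi_tv_eq_one hv (by rw [h, e, tv_zero, map_one]))
  obtain ⟨z, hz, he⟩ := (QuotientGroup.mk'_eq_mk' _).1 h
  obtain ⟨y, hy, -⟩ := exists_nonorth hw hw
  rw [sympForm_swap, neg_ne_zero] at hy
  rcases mem_center_iff.1 hz with rfl | rfl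
  · rw [mul_one] at he
    have := congrArg (fun k : Sp m F => k • y) he
    simp only [tv_smul, add_right_inj] at this
    exact ⟨(d * sympForm m F y w)⁻¹ * (c * sympForm m F y v), by
      rw [← smul_smul, this, inv_smul_smul₀ (mul_ne_zero hd hy)]⟩
  · by_cases h2 : (2 : F) = 0
    · have h1 : (negOne : Sp m F) = 1 := eq_of_smul_eq fun x => by
        rw [negOne_smul, one_smul, ← neg_one_smul F x,
          show (-1 : F) = 1 by linear_combination -h2, one_smul]
      rw [h1, mul_one] at he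
      have := congrArg (fun k : Sp m F => k • y) he
      simp only [tv_smul, add_right_inj] at this
      exact ⟨(d * sympForm m F y w)⁻¹ * (c * sympForm m F y v), by
        rw [← smul_smul, this, inv_smul_smul₀ (mul_ne_zero hd hy)]⟩
    · have := congrArg (fun k : Sp m F => k • w) he
      have hneg : sympForm m F (-w) v = -sympForm m F w v := by
        rw [← neg_one_smul F w, sympForm_smul_left, neg_one_mul]
      simp only [mul_smul, tv_smul, negOne_smul, sympForm_self, mul_zero, zero_smul, add_zero,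
        hneg] at this
      refine ⟨-(c * sympForm m F w v) / 2, funext fun i => ?_⟩
      have hh := congrFun this i
      simp only [Pi.add_apply, Pi.neg_apply, Pi.smul_apply, smul_eq_mul] at hh ⊢
      field_simp
      linear_combination -hh

theorem tbar_smul {v : Vec m F} {a : F} (ha : a ≠ 0) : tbar (a • v) = tbar v := by
  rw [tbar, rootGroup_smul_vec ha, tbar]

theorem tbar_eq_iff {v w : Vec m F} (hv : v ≠ 0) (hw : w ≠ 0) :
    tbar v = tbar w ↔ ∃ a : F, w = a • v := by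
  constructor
  · intro h
    obtain ⟨d, hd⟩ := mem_tbar.1 (h ▸ mem_tbar.2 ⟨1, rfl⟩ : pi m F (tv v 1) ∈ tbar w)
    exact eq_smul_of_pi_eq hv hw one_ne_zero hd
  · rintro ⟨a, rfl⟩
    exact (tbar_smul fun e => hw (by rw [e, zero_smul])).symm

theorem orth_iff {v w : Vec m F} (hw : w ≠ 0) :
    sympForm m F v w = 0 ↔ ∀ x ∈ tbar v, ∀ y ∈ tbar w, x * y = y * x := by
  constructor
  · intro h x hx y hy
    obtain ⟨c, rfl⟩ := mem_tbar.1 hx
    obtain ⟨d, rfl⟩ := mem_tbar.1 hy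
    rw [← map_mul, ← map_mul]
    refine congrArg _ ?_
    rw [← mul_inv_eq_iff_eq_mul, conj_tv, tv_smul_of_orth c]
    rw [sympForm_swap, h, neg_zero]
  · intro h
    have := h _ (mem_tbar.2 ⟨1, rfl⟩) _ (mem_tbar.2 ⟨1, rfl⟩)
    rw [← mul_inv_eq_iff_eq_mul, ← map_mul, ← map_inv, ← map_mul, conj_tv] at this
    obtain ⟨a, ha⟩ := eq_smul_of_pi_eq hw (smul_ne_zero_of_ne_zero _ hw) one_ne_zero this.symm
    rw [tv_smul, one_mul] at ha
    by_contra hne
    have hwv : sympForm m F w v ≠ 0 := by rwa [sympForm_swap, neg_ne_zero]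
    have e := congrArg (sympForm m F w) ha
    rw [sympForm_add_right, sympForm_self, zero_add, sympForm_smul_right, sympForm_smul_right,
      sympForm_self, mul_zero] at e
    exact mul_ne_zero hwv hwv e

theorem map_conj_tbar (g : Sp m F) (v : Vec m F) :
    (tbar v).map (MulAut.conj (pi m F g)).toMonoidHom = tbar (g • v) := by
  ext x
  simp only [Subgroup.mem_map, mem_tbar, MulEquiv.coe_toMonoidHom, MulAut.conj_apply]
  constructor
  · rintro ⟨_, ⟨c, rfl⟩, rfl⟩
    exact ⟨c, by rw [← map_inv, ← map_mul, ← map_mul, conj_tv]⟩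
  · rintro ⟨c, rfl⟩
    exact ⟨_, ⟨c, rfl⟩, by rw [← map_inv, ← map_mul, ← map_mul, conj_tv]⟩

end Cfsg.Agent.CG26.AutPSp
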