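import Cfsg.Agent.CG26.AutPSp.Graph
import Cfsg.Agent.Lib.Symplectic.Card

/-!
The kernel of the semilinear action on `PSp_{2m}(q)` and the number of semilinear automorphisms.
-/

set_option autoImplicit false

namespace Cfsg.Agent.CG26.AutPSp

open Matrix Symplectic

variable {m : ℕ} {F : Type*} [Field F]

/-- The automorphism is semilinear. -/
def IsSemiSp (β : MulAut (Cfsg.PSp m F)) : Prop :=
  ∃ (g : GL (Fin m ⊕ Fin m) F) (σ : F ≃+* F), g ∈ Cfsg.GSp m F ∧ AutPSL.Induced (rho m F) g σ β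

theorem mulVec_fv_ne (g : GL (Fin m ⊕ Fin m) F) (σ : F ≃+* F) {v : Vec m F} (hv : v ≠ 0) :
    (g : Matrix (Fin m ⊕ Fin m) (Fin m ⊕ Fin m) F) *ᵥ fv σ v ≠ 0 := fun e => hv (by
  have := congrArg (((g⁻¹ : GL (Fin m ⊕ Fin m) F) : Matrix (Fin m ⊕ Fin m) (Fin m ⊕ Fin m) F) *ᵥ ·) e
  simp only [Matrix.mulVec_mulVec, ← Units.val_mul, inv_mul_cancel, Units.val_one, Matrix.one_mulVec,
    Matrix.mulVec_zero] at this
  exact funext fun i => σ.injective ((congrFun this i).trans (map_zero σ).symm))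

/-- The semilinear map is determined by its automorphism up to a scalar. -/
theorem unique (hm : 1 ≤ m) {g g' : GL (Fin m ⊕ Fin m) F} {σ σ' : F ≃+* F}
    {β : MulAut (Cfsg.PSp m F)} (hg : g ∈ Cfsg.GSp m F) (hg' : g' ∈ Cfsg.GSp m F)
    (h : AutPSL.Induced (rho m F) g σ β) (h' : AutPSL.Induced (rho m F) g' σ' β) :
    σ = σ' ∧ ∃ c : F, c ≠ 0 ∧ (g : Matrix (Fin m ⊕ Fin m) (Fin m ⊕ Fin m) F) =
      c • (g' : Matrix (Fin m ⊕ Fin m) (Fin m ⊕ Fin m) F) := by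
  set H := (((g'⁻¹ * g : GL (Fin m ⊕ Fin m) F)) : Matrix (Fin m ⊕ Fin m) (Fin m ⊕ Fin m) F) with hH
  have hprop : ∀ v : Vec m F, v ≠ 0 → ∃ a : F, H *ᵥ fv σ v = a • fv σ' v := by
    intro v hv
    have e := (map_tbar_of_induced hg h v).symm.trans (map_tbar_of_induced hg' h' v)
    obtain ⟨a, ha⟩ := (tbar_eq_iff (mulVec_fv_ne g σ hv) (mulVec_fv_ne g' σ' hv)).1 e
    have ha0 : a ≠ 0 := fun e0 => mulVec_fv_ne g' σ' hv (by rw [ha, e0, zero_smul])
    refine ⟨a⁻¹, ?_⟩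
    rw [hH, Units.val_mul, ← Matrix.mulVec_mulVec]
    rw [eq_inv_smul_iff₀ ha0, ← Matrix.mulVec_smul, ← ha, Matrix.mulVec_mulVec, ← Units.val_mul,
      inv_mul_cancel, Units.val_one, Matrix.one_mulVec]
  have hsingle : ∀ (τ : F ≃+* F) i, fv τ (Pi.single i 1) = (Pi.single i 1 : Vec m F) := by
    intro τ i; funext j; by_cases hj : j = i <;> simp [fv, hj]
  have hcol : ∀ i, ∃ a : F, H *ᵥ Pi.single i 1 = a • (Pi.single i 1 : Vec m F) := fun i => by
    obtain ⟨a, ha⟩ := hprop (Pi.single i 1) (by simp)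
    exact ⟨a, by simpa [hsingle] using ha⟩
  choose a ha using hcol
  have key : ∀ i j, i ≠ j → ∀ x : F, ∃ b : F, a i = b ∧ σ x * a j = b * σ' x := by
    intro i j hij x
    have hne : (Pi.single i 1 + x • Pi.single j 1 : Vec m F) ≠ 0 := fun e => by
      have := congrFun e i; simp [hij] at this
    obtain ⟨b, hb⟩ := hprop _ hne
    have e1 : ∀ τ : F ≃+* F, fv τ (Pi.single i 1 + x • Pi.single j 1 : Vec m F) =
        Pi.single i 1 + τ x • Pi.single j 1 := fun τ => funext fun k => by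
      by_cases hk : k = i
      · subst hk; simp [fv, hij]
      · by_cases hk' : k = j
        · subst hk'; simp [fv, hk]
        · simp [fv, hk, hk']
    rw [e1, e1, Matrix.mulVec_add, Matrix.mulVec_smul, ha, ha] at hb
    have b1 := congrFun hb i
    have b2 := congrFun hb j
    simp [hij, Ne.symm hij] at b1 b2
    exact ⟨b, b1, b2⟩
  have hall : ∀ i j, a i = a j := fun i j => by
    by_cases hij : i = j
    · rw [hij]
    · obtain ⟨b, b1, b2⟩ := key i j hij 1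
      rw [map_one, map_one, one_mul, mul_one] at b2
      rw [b1, b2]
  set i₀ : Fin m ⊕ Fin m := Sum.inl ⟨0, hm⟩
  set j₀ : Fin m ⊕ Fin m := Sum.inr ⟨0, hm⟩
  set c := a i₀ with hc
  have hHc : H = c • 1 := by
    refine Matrix.ext_of_mulVec_single fun i => ?_
    rw [ha, hall i i₀, Matrix.smul_mulVec, Matrix.one_mulVec]
  have hc0 : c ≠ 0 := by
    intro e
    have hz : H *ᵥ (Pi.single i₀ 1 : Vec m F) = 0 := by rw [ha, ← hc, e, zero_smul]
    have := congrArg ((((g'⁻¹ * g)⁻¹ : GL (Fin m ⊕ Fin m) F)) : Matrix (Fin m ⊕ Fin m) (Fin m ⊕ Fin m) F).mulVec hz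
    rw [Matrix.mulVec_mulVec, hH, ← Units.val_mul, inv_mul_cancel, Units.val_one, Matrix.one_mulVec,
      Matrix.mulVec_zero] at this
    simp at this
  refine ⟨RingEquiv.ext fun x => ?_, c, hc0, ?_⟩
  · obtain ⟨b, b1, b2⟩ := key i₀ j₀ (by simp [i₀, j₀]) x
    rw [← b1, ← hall i₀ j₀, ← hc, mul_comm] at b2
    exact mul_left_cancel₀ hc0 b2
  · have := congrArg ((g' : Matrix (Fin m ⊕ Fin m) (Fin m ⊕ Fin m) F) * ·) hHc
    simpa [hH, ← Matrix.mul_assoc, ← Units.val_mul] using this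

theorem induced_smul {g g' : GL (Fin m ⊕ Fin m) F} {σ : F ≃+* F} {β : MulAut (Cfsg.PSp m F)} {c : F}
    (hc : c ≠ 0) (he : (g' : Matrix (Fin m ⊕ Fin m) (Fin m ⊕ Fin m) F) =
      c • (g : Matrix (Fin m ⊕ Fin m) (Fin m ⊕ Fin m) F))
    (h : AutPSL.Induced (rho m F) g σ β) : AutPSL.Induced (rho m F) g' σ β := by
  intro s s' hs
  refine h s s' (hs.trans ?_)
  rw [AutPSL.act_apply, AutPSL.act_apply, mul_inv_eq_iff_eq_mul]
  have hl : g' = AutPSL.fieldMap (1 : F ≃+* F) g' := (AutPSL.fieldMap_one g').symm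
  apply Units.ext
  simp only [Units.val_mul, he, Matrix.smul_mul, Matrix.mul_smul, Matrix.mul_assoc]
  rw [← Units.val_mul g⁻¹ g, inv_mul_cancel, Units.val_one, Matrix.mul_one]

theorem scalar_coe (u : Fˣ) :
    ((Matrix.GeneralLinearGroup.scalar (Fin m ⊕ Fin m) u : GL (Fin m ⊕ Fin m) F) :
      Matrix (Fin m ⊕ Fin m) (Fin m ⊕ Fin m) F) = (u : F) • 1 := by
  show Matrix.scalar (Fin m ⊕ Fin m) (u : F) = _
  rw [Matrix.scalar_apply, Matrix.smul_one_eq_diagonal]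

theorem scaled_mem {g : GL (Fin m ⊕ Fin m) F} (hg : g ∈ Cfsg.GSp m F) (u : Fˣ) :
    Matrix.GeneralLinearGroup.scalar (Fin m ⊕ Fin m) u * g ∈ Cfsg.GSp m F := by
  refine mul_mem ⟨u * u, fun x y => ?_⟩ hg
  rw [scalar_coe, Matrix.smul_mulVec, Matrix.one_mulVec, Matrix.smul_mulVec, Matrix.one_mulVec,
    sympForm_smul_left, sympForm_smul_right, Units.val_mul, mul_assoc]

theorem scalar_mul_coe (u : Fˣ) (g : GL (Fin m ⊕ Fin m) F) :
    ((Matrix.GeneralLinearGroup.scalar (Fin m ⊕ Fin m) u * g : GL (Fin m ⊕ Fin m) F) :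
      Matrix (Fin m ⊕ Fin m) (Fin m ⊕ Fin m) F) =
      (u : F) • (g : Matrix (Fin m ⊕ Fin m) (Fin m ⊕ Fin m) F) := by
  rw [Units.val_mul, scalar_coe, Matrix.smul_mul, Matrix.one_mul]

variable [Finite F]

/-- `|GSp_{2m}(q)| = (q-1) |Sp_{2m}(q)|`. -/
theorem card_GSp (hm : 1 ≤ m) :
    Nat.card (Cfsg.GSp m F) = Nat.card Fˣ * Nat.card (Sp m F) := by
  classical
  let D : Fˣ → GL (Fin m ⊕ Fin m) F := fun u =>
    Matrix.GeneralLinearGroup.mk'' (Matrix.diagonal (Sum.elim (fun _ => 1) (fun _ => (u : F)))) (by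
      rw [Matrix.det_diagonal]
      refine IsUnit.prod_univ_iff.mpr fun i => ?_
      rcases i with i | i <;> simp)
  have hD : ∀ (u : Fˣ) (x y : Vec m F), sympForm m F
      ((D u : Matrix (Fin m ⊕ Fin m) (Fin m ⊕ Fin m) F) *ᵥ x)
      ((D u : Matrix (Fin m ⊕ Fin m) (Fin m ⊕ Fin m) F) *ᵥ y) = u * sympForm m F x y := by
    intro u x y
    show sympForm m F (Matrix.diagonal _ *ᵥ x) (Matrix.diagonal _ *ᵥ y) = _
    simp only [sympForm_eq_sum, Matrix.mulVec_diagonal, Sum.elim_inl, Sum.elim_inr, one_mul,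
      Finset.mul_sum]
    exact Finset.sum_congr rfl fun i _ => by ring
  let Φ : Fˣ × Sp m F → Cfsg.GSp m F := fun p => ⟨D p.1 * rho m F p.2, ⟨p.1, fun x y => by
    rw [Units.val_mul, ← Matrix.mulVec_mulVec, ← Matrix.mulVec_mulVec, hD, rho_coe,
      (mem_iff_form _).1 p.2.2]⟩⟩
  refine ((Nat.card_eq_of_bijective Φ ⟨?_, ?_⟩).symm).trans (Nat.card_prod _ _)
  · rintro ⟨u, s⟩ ⟨u', s'⟩ h
    have h' : D u * rho m F s = D u' * rho m F s' := congrArg Subtype.val h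
    obtain ⟨y, hy, -⟩ := exists_nonorth (eI_ne_zero (F := F) ⟨0, hm⟩) (eI_ne_zero ⟨0, hm⟩)
    have hh : ∀ (u : Fˣ) (s : Sp m F), sympForm m F
        (((D u * rho m F s : GL _ F) : Matrix (Fin m ⊕ Fin m) (Fin m ⊕ Fin m) F) *ᵥ eI ⟨0, hm⟩)
        (((D u * rho m F s : GL _ F) : Matrix (Fin m ⊕ Fin m) (Fin m ⊕ Fin m) F) *ᵥ y) =
          u * sympForm m F (eI ⟨0, hm⟩) y := fun u s => by
      rw [Units.val_mul, ← Matrix.mulVec_mulVec, ← Matrix.mulVec_mulVec, hD, rho_coe,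
        (mem_iff_form _).1 s.2]
    have e := hh u s
    rw [h', hh u' s'] at e
    have hu : u = u' := Units.ext (mul_right_cancel₀ hy e).symm
    subst hu
    rw [rho_injective (mul_left_cancel h')]
  · rintro ⟨g, c, hc⟩
    refine ⟨(c, ⟨(((D c)⁻¹ * g : GL _ F) : Matrix (Fin m ⊕ Fin m) (Fin m ⊕ Fin m) F),
      (mem_iff_form _).2 fun x y => ?_⟩), Subtype.ext ?_⟩
    · refine mul_left_cancel₀ c.ne_zero ?_
      rw [← hD, Matrix.mulVec_mulVec, Matrix.mulVec_mulVec, ← Units.val_mul, mul_inv_cancel_left, hc]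
    · show D c * rho m F _ = g
      refine Eq.trans ?_ (mul_inv_cancel_left (D c) g)
      refine congrArg (D c * ·) ?_
      exact Units.ext rfl

/-- The number of semilinear automorphisms. -/
theorem card_semiSp (hm : 1 ≤ m) :
    Nat.card {β : MulAut (Cfsg.PSp m F) // IsSemiSp β} = Nat.card (Sp m F) * Nat.card (F ≃+* F) := by
  classical
  haveI : Finite (Cfsg.PSp m F) := Finite.of_surjective _ (QuotientGroup.mk'_surjective _)
  haveI : Finite (Cfsg.PSp m F →* Cfsg.PSp m F) := Finite.of_injective _ DFunLike.coe_injective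
  haveI : Finite (MulAut (Cfsg.PSp m F)) :=
    Finite.of_injective (fun e => (e : Cfsg.PSp m F → Cfsg.PSp m F)) DFunLike.coe_injective
  let T := {β : MulAut (Cfsg.PSp m F) // IsSemiSp β}
  choose g σ hg hβ using fun β : T => β.2
  let Ψ : T × Fˣ → Cfsg.GSp m F × (F ≃+* F) := fun p =>
    (⟨_, scaled_mem (hg p.1) p.2⟩, σ p.1)
  have hΨ : Function.Bijective Ψ := by
    constructor
    · rintro ⟨β, u⟩ ⟨β', u'⟩ h
      have h1 : Matrix.GeneralLinearGroup.scalar (Fin m ⊕ Fin m) u * g β =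
          Matrix.GeneralLinearGroup.scalar (Fin m ⊕ Fin m) u' * g β' :=
        congrArg Subtype.val (Prod.mk.inj h).1
      have h2 : σ β = σ β' := (Prod.mk.inj h).2
      have i1 := induced_smul u.ne_zero (scalar_mul_coe u (g β)) (hβ β)
      have i2 := induced_smul u'.ne_zero (scalar_mul_coe u' (g β')) (hβ β')
      rw [h1, h2] at i1
      have hb : β = β' := Subtype.ext
        (AutPSL.Induced.ext (normalises (scaled_mem (hg β') u') (σ β')) i1 i2)
      subst hb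
      have h3 := congrArg (fun z : GL (Fin m ⊕ Fin m) F => z * (g β)⁻¹) h1
      simp only [mul_inv_cancel_right] at h3
      have h3' := congrArg (fun z : GL (Fin m ⊕ Fin m) F => (z : Matrix (Fin m ⊕ Fin m) (Fin m ⊕ Fin m) F)) h3
      simp only [scalar_coe] at h3'
      have h4 := congrFun (congrFun h3' (Sum.inl ⟨0, hm⟩)) (Sum.inl ⟨0, hm⟩)
      simp only [Matrix.smul_apply, Matrix.one_apply_eq, smul_eq_mul, mul_one] at h4
      rw [Units.ext h4]
    · rintro ⟨⟨x, hx⟩, τ⟩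
      obtain ⟨β, hb⟩ := AutPSL.exists_induced (rho_injective (m := m) (F := F)) (normalises hx τ)
      set b : T := ⟨β, x, τ, hx, hb⟩
      obtain ⟨hσ, c, hc, hxc⟩ := unique hm hx (hg b) hb (hβ b)
      exact ⟨(b, Units.mk0 c hc), Prod.ext (Subtype.ext (Units.ext
        ((scalar_mul_coe _ _).trans hxc.symm))) hσ.symm⟩
  have h := Nat.card_eq_of_bijective Ψ hΨ
  rw [Nat.card_prod, Nat.card_prod, card_GSp hm, mul_assoc, mul_comm (Nat.card Fˣ)] at h
  exact Nat.eq_of_mul_eq_mul_right Nat.card_pos h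

/-- A semilinear automorphism maps transvections to transvections. -/
theorem IsSemiSp.map_tv {β : MulAut (Cfsg.PSp m F)} (h : IsSemiSp β) {v : Vec m F} (hv : v ≠ 0)
    {c : F} (hc : c ≠ 0) : ∃ (w : Vec m F) (d : F), w ≠ 0 ∧ d ≠ 0 ∧
      β (pi m F (tv v c)) = pi m F (tv w d) := by
  obtain ⟨g, σ, hg, hb⟩ := h
  obtain ⟨μ, hμ, hact⟩ := exists_act_tv hg σ
  exact ⟨_, _, mulVec_fv_ne g σ hv, mul_ne_zero (inv_ne_zero hμ) ((map_ne_zero σ).2 hc),
    hb _ _ (hact v c).symm⟩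

/-- An automorphism moving a transvection out of its class gives all the others. -/
theorem semi_or_of_graph [CharP F 2] {τ : MulAut (Cfsg.PSp 2 F)} {x₀ : Cfsg.PSp 2 F} (hx₀ : IsTv x₀)
    (hτ : ¬ IsTv (τ x₀)) : (∀ β, IsSemiSp β → ¬ IsSemiSp (τ * β)) ∧
      ∀ α, IsSemiSp α ∨ IsSemiSp (τ⁻¹ * α) := by
  refine ⟨fun β hβ hτβ => hτ ?_, fun α => (permTv_or rfl hx₀ hτ α).imp
    (fun hp => exists_semilinear_of_perm le_rfl α hp) fun hp => exists_semilinear_of_perm le_rfl _ hp⟩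
  obtain ⟨g, σ, hg, hb⟩ := hβ
  obtain ⟨v, c, hv, hc, rfl⟩ := hx₀
  obtain ⟨μ, hμ, hact⟩ := exists_act_tv hg σ
  obtain ⟨u, rfl⟩ := exists_preimage g σ v
  have hu : u ≠ 0 := fun e => hv (by
    rw [show fv σ u = 0 from funext fun i => by simp [fv, e], Matrix.mulVec_zero])
  have e : β (pi 2 F (tv u (σ.symm (μ * c)))) =
      pi 2 F (tv ((g : Matrix (Fin 2 ⊕ Fin 2) (Fin 2 ⊕ Fin 2) F) *ᵥ fv σ u) c) := by
    rw [show pi 2 F (tv u (σ.symm (μ * c))) = QuotientGroup.mk (tv u (σ.symm (μ * c))) from rfl,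
      hb _ _ (hact u _).symm, σ.apply_symm_apply, inv_mul_cancel_left₀ hμ]
    rfl
  obtain ⟨w, d, hw, hd, h'⟩ := hτβ.map_tv hu ((map_ne_zero σ.symm).2 (mul_ne_zero hμ hc))
  exact ⟨w, d, hw, hd, by rw [← e, ← h', MulAut.mul_apply]⟩

/-- `Aut(PSp_4(2^f))`: semilinear, or semilinear composed with a graph automorphism. -/
theorem exists_semi_or [CharP F 2] (h : 3 ≤ Nat.card F) :
    ∃ τ : MulAut (Cfsg.PSp 2 F), (∀ β, IsSemiSp β → ¬ IsSemiSp (τ * β)) ∧
      ∀ α, IsSemiSp α ∨ IsSemiSp (τ⁻¹ * α) := by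
  obtain ⟨τ, x₀, hx₀, hτ⟩ := exists_graph (F := F) h
  exact ⟨τ, semi_or_of_graph hx₀ hτ⟩

end Cfsg.Agent.CG26.AutPSp
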