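import Cfsg.Agent.CG26.AutPSp.Basic
import Cfsg.Agent.CG26.ProjColl

/-!
An automorphism of `PSp_{2m}(F)` permuting the transvection groups is semilinear: it induces a
collineation commuting with the polarity, and an automorphism fixing every transvection group is trivial.
-/

set_option autoImplicit false

namespace Cfsg.Agent.CG26.AutPSp

open Matrix Symplectic

variable {m : ℕ} {F : Type*} [Field F]

/-- `α` permutes the transvection groups. -/
def PermTv (α : MulAut (Cfsg.PSp m F)) : Prop :=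
  ∀ v : Vec m F, v ≠ 0 → ∃ w : Vec m F, w ≠ 0 ∧ (tbar v).map α.toMonoidHom = tbar w

/-- The form as a functional. -/
noncomputable def formL (u : Vec m F) : Vec m F →ₗ[F] F where
  toFun y := sympForm m F u y
  map_add' := sympForm_add_right u
  map_smul' a y := sympForm_smul_right a u y

theorem eq_of_form_eq {x y : Vec m F} (h : ∀ z, sympForm m F x z = sympForm m F y z) : x = y := by
  by_contra hne
  obtain ⟨z, hz, -⟩ := exists_nonorth (sub_ne_zero.2 hne) (sub_ne_zero.2 hne)
  exact hz (by rw [sympForm_sub_left, h, sub_self])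

theorem exists_comb_iff (u v w : Vec m F) :
    (∃ a b : F, w = a • u + b • v) ↔
      ∀ y : Vec m F, y ≠ 0 → sympForm m F u y = 0 → sympForm m F v y = 0 → sympForm m F w y = 0 := by
  constructor
  · rintro ⟨a, b, rfl⟩ y - h1 h2
    rw [sympForm_add_left, sympForm_smul_left, sympForm_smul_left, h1, h2, mul_zero, mul_zero,
      add_zero]
  · intro h
    have hmem := mem_span_of_iInf_ker_le_ker (L := ![formL u, formL v]) (K := formL w) (fun y hy => by
      simp only [Submodule.mem_iInf, LinearMap.mem_ker] at hy ⊢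
      by_cases h0 : y = 0
      · simp [h0]
      · exact h y h0 (hy 0) (hy 1))
    rw [Matrix.range_cons_cons_empty, Submodule.mem_span_pair] at hmem
    obtain ⟨a, b, hab⟩ := hmem
    refine ⟨a, b, eq_of_form_eq fun z => ?_⟩
    have := LinearMap.congr_fun hab z
    rw [sympForm_add_left, sympForm_smul_left, sympForm_smul_left]
    exact this.symm

/-- Proportional forms. -/
theorem exists_mult_of_orth {g : GL (Fin m ⊕ Fin m) F}
    (h : ∀ u v : Vec m F, sympForm m F u v = 0 ↔ sympForm m F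
      ((g : Matrix (Fin m ⊕ Fin m) (Fin m ⊕ Fin m) F) *ᵥ u)
      ((g : Matrix (Fin m ⊕ Fin m) (Fin m ⊕ Fin m) F) *ᵥ v) = 0) :
    g ∈ Cfsg.GSp m F := by
  set A : Matrix (Fin m ⊕ Fin m) (Fin m ⊕ Fin m) F := (g : Matrix (Fin m ⊕ Fin m) (Fin m ⊕ Fin m) F)
  set B : Vec m F → Vec m F → F := fun u v => sympForm m F (A *ᵥ u) (A *ᵥ v) with hB
  have addr : ∀ u v v', B u (v + v') = B u v + B u v' := fun u v v' => by
    simp only [hB, Matrix.mulVec_add, sympForm_add_right]
  have smulr : ∀ u a v, B u (a • v) = a * B u v := fun u a v => by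
    simp only [hB, Matrix.mulVec_smul, sympForm_smul_right]
  -- for fixed `u` the functionals are proportional
  have hfix : ∀ u y, sympForm m F u y ≠ 0 → ∀ v,
      B u v = B u y / sympForm m F u y * sympForm m F u v := by
    intro u y hy v
    have h0 : sympForm m F u (v + (-(sympForm m F u v / sympForm m F u y)) • y) = 0 := by
      rw [sympForm_add_right, sympForm_smul_right]; field_simp; ring
    have h1 : B u (v + (-(sympForm m F u v / sympForm m F u y)) • y) = 0 := (h _ _).1 h0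
    rw [addr, smulr] at h1
    field_simp
    field_simp at h1
    linear_combination h1
  have hswap : ∀ u v, B u v = -B v u := fun u v => sympForm_swap _ _
  by_cases hz : ∀ u v : Vec m F, sympForm m F u v = 0
  · exact ⟨1, fun u v => by rw [hz, hz, mul_zero]⟩
  push Not at hz
  obtain ⟨u₀, v₀, hne⟩ := hz
  set μ := B u₀ v₀ / sympForm m F u₀ v₀ with hμ
  have hμ0 : μ ≠ 0 := div_ne_zero (fun e => hne ((h _ _).2 e)) hne
  have hpair : ∀ u v u' v', sympForm m F u v ≠ 0 → sympForm m F u' v' ≠ 0 →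
      B u v / sympForm m F u v = B u' v' / sympForm m F u' v' := by
    intro u v u' v' huv hu'v'
    have hu : u ≠ 0 := fun e => huv (by simp [e])
    have hu' : u' ≠ 0 := fun e => hu'v' (by simp [e])
    obtain ⟨y, h1, h2⟩ := exists_nonorth hu hu'
    have hyu : sympForm m F y u ≠ 0 := by rwa [sympForm_swap, neg_ne_zero]
    have a1 := hfix u y h1 v
    have a2 := hfix u' y h2 v'
    have a3 := hfix y u hyu u'
    rw [hswap y u', sympForm_swap y u', hswap y u, sympForm_swap y u] at a3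
    rw [a1, a2]
    field_simp
    field_simp at a3
    linear_combination a3
  refine ⟨Units.mk0 μ hμ0, fun u v => ?_⟩
  show B u v = μ * _
  by_cases huv : sympForm m F u v = 0
  · rw [huv, mul_zero]; exact (h u v).1 huv
  · rw [hμ, ← hpair u v u₀ v₀ huv hne, div_mul_cancel₀ _ huv]

theorem eq_one_of_fix {α : MulAut (Cfsg.PSp m F)}
    (h : ∀ v : Vec m F, v ≠ 0 → (tbar v).map α.toMonoidHom = tbar v) : α = 1 := by
  apply MulEquiv.ext
  intro x
  obtain ⟨s, rfl⟩ := QuotientGroup.mk_surjective x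
  obtain ⟨s', hs'⟩ := QuotientGroup.mk_surjective (α (QuotientGroup.mk s))
  rw [MulAut.one_apply, ← hs']
  refine (QuotientGroup.eq.2 (mem_center_iff_fix_lines.2 fun v => ?_)).symm
  by_cases hv : v = 0
  · exact ⟨0, by simp [hv]⟩
  have h1 : (tbar v).map (MulAut.conj (pi m F s)).toMonoidHom = tbar (s • v) := map_conj_tbar s v
  have h2 : tbar (s • v) = tbar (s' • v) := by
    rw [← h _ (smul_ne_zero_of_ne_zero s hv), ← map_conj_tbar s' v, ← h1, Subgroup.map_map]
    conv_rhs => rw [← h v hv, Subgroup.map_map]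
    congr 1
    refine MonoidHom.ext fun y => ?_
    show α (pi m F s * y * (pi m F s)⁻¹) = pi m F s' * α y * (pi m F s')⁻¹
    rw [map_mul, map_mul, map_inv]
    exact congrArg₂ (· * ·) (congrArg (· * α y) hs'.symm) (congrArg _ hs'.symm)
  obtain ⟨a, ha⟩ := (tbar_eq_iff (smul_ne_zero_of_ne_zero s hv) (smul_ne_zero_of_ne_zero s' hv)).1 h2
  exact ⟨a, by rw [mul_smul, ha, smul_comm, inv_smul_smul]⟩

theorem map_tbar_of_induced {g : GL (Fin m ⊕ Fin m) F} {σ : F ≃+* F} {β : MulAut (Cfsg.PSp m F)}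
    (hg : g ∈ Cfsg.GSp m F) (hβ : AutPSL.Induced (rho m F) g σ β) (v : Vec m F) :
    (tbar v).map β.toMonoidHom = tbar ((g : Matrix (Fin m ⊕ Fin m) (Fin m ⊕ Fin m) F) *ᵥ fv σ v) := by
  obtain ⟨μ, hμ, hact⟩ := exists_act_tv hg σ
  have hb : ∀ c, β (pi m F (tv v c)) =
      pi m F (tv ((g : Matrix (Fin m ⊕ Fin m) (Fin m ⊕ Fin m) F) *ᵥ fv σ v) (μ⁻¹ * σ c)) :=
    fun c => hβ _ _ (hact v c).symm
  ext x
  simp only [Subgroup.mem_map, mem_tbar, MulEquiv.coe_toMonoidHom]
  constructor
  · rintro ⟨_, ⟨c, rfl⟩, rfl⟩; exact ⟨_, hb c⟩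
  · rintro ⟨d, rfl⟩
    refine ⟨_, ⟨σ.symm (μ * d), rfl⟩, ?_⟩
    rw [hb, σ.apply_symm_apply, inv_mul_cancel_left₀ hμ]

variable [Finite F]

/-- **An automorphism permuting the transvection groups is semilinear.** -/
theorem exists_semilinear_of_perm (hm : 2 ≤ m) (α : MulAut (Cfsg.PSp m F)) (hα : PermTv α) :
    ∃ (g : GL (Fin m ⊕ Fin m) F) (σ : F ≃+* F), g ∈ Cfsg.GSp m F ∧
      AutPSL.Induced (rho m F) g σ α := by
  classical
  have hex : ∀ v : Vec m F, ∃ w : Vec m F,
      v ≠ 0 → w ≠ 0 ∧ (tbar v).map α.toMonoidHom = tbar w := fun v => by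
    by_cases hv : v = 0
    · exact ⟨0, fun h => absurd hv h⟩
    · obtain ⟨w, hw⟩ := hα v hv; exact ⟨w, fun _ => hw⟩
  choose r hr using hex
  have hne : ∀ v, v ≠ 0 → r v ≠ 0 := fun v hv => (hr v hv).1
  have hmap : ∀ v, v ≠ 0 → (tbar v).map α.toMonoidHom = tbar (r v) := fun v hv => (hr v hv).2
  have hinj : ∀ u v, u ≠ 0 → v ≠ 0 → tbar (r u) = tbar (r v) → tbar u = tbar v := by
    intro u v hu hv h
    rw [← hmap u hu, ← hmap v hv] at h
    exact Subgroup.map_injective α.injective h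
  have horth : ∀ u v, u ≠ 0 → v ≠ 0 → (sympForm m F u v = 0 ↔ sympForm m F (r u) (r v) = 0) := by
    intro u v hu hv
    rw [orth_iff hv, orth_iff (hne v hv), ← hmap u hu, ← hmap v hv]
    constructor
    · rintro h _ ⟨a, ha, rfl⟩ _ ⟨b, hb, rfl⟩
      rw [← map_mul, ← map_mul, h a ha b hb]
    · intro h a ha b hb
      have := h _ ⟨a, ha, rfl⟩ _ ⟨b, hb, rfl⟩
      rw [← map_mul, ← map_mul] at this
      exact α.injective this
  have hsurj : ∀ y : Vec m F, y ≠ 0 → ∃ v, v ≠ 0 ∧ ∃ a : F, y = a • r v := by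
    intro y hy
    let T := {P : Subgroup (Cfsg.PSp m F) // ∃ v : Vec m F, v ≠ 0 ∧ P = tbar v}
    let f : T → T := fun P => ⟨P.1.map α.toMonoidHom, by
      obtain ⟨v, hv, hP⟩ := P.2
      exact ⟨r v, hne v hv, by rw [hP, hmap v hv]⟩⟩
    have : Finite T := Finite.of_injective (fun P : T => P.2.choose) fun P Q h => Subtype.ext (by
      rw [P.2.choose_spec.2, Q.2.choose_spec.2]; exact congrArg tbar h)
    have hf : Function.Injective f := fun P Q h => Subtype.ext
      (Subgroup.map_injective α.injective (congrArg Subtype.val h))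
    obtain ⟨⟨P, v, hv, rfl⟩, hPv⟩ := Finite.injective_iff_surjective.mp hf ⟨_, y, hy, rfl⟩
    have := congrArg Subtype.val hPv
    change (tbar v).map α.toMonoidHom = tbar y at this
    rw [hmap v hv, tbar_eq_iff (hne v hv) hy] at this
    exact ⟨v, hv, this⟩
  have hcoll : ProjColl.IsColl r := by
    refine ⟨hne, fun u v hu hv => ?_, fun u v w hu hv hw hl => ?_, hsurj⟩
    · rintro ⟨a, ha⟩
      exact (tbar_eq_iff hv hu).1 (hinj v u hv hu ((tbar_eq_iff (hne v hv) (hne u hu)).2 ⟨a, ha⟩))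
    · rw [exists_comb_iff] at hl ⊢
      intro y hy h1 h2
      obtain ⟨z, hz, a, rfl⟩ := hsurj y hy
      have ha : a ≠ 0 := fun e => hy (by rw [e, zero_smul])
      rw [sympForm_smul_right, mul_eq_zero, or_iff_right ha] at h1 h2 ⊢
      rw [← horth _ _ hw hz]
      exact hl z hz ((horth _ _ hu hz).2 h1) ((horth _ _ hv hz).2 h2)
  obtain ⟨g, σ, hgσ⟩ := ProjColl.exists_semilinear
    (by rw [Fintype.card_sum, Fintype.card_fin]; omega) hcoll
  have hg : g ∈ Cfsg.GSp m F := by
    refine exists_mult_of_orth fun x y => ?_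
    by_cases hx : x = 0
    · simp [hx]
    by_cases hy : y = 0
    · simp [hy]
    obtain ⟨u, rfl⟩ : ∃ u, x = fv σ u := ⟨fv σ.symm x, funext fun i => (σ.apply_symm_apply _).symm⟩
    obtain ⟨v, rfl⟩ : ∃ v, y = fv σ v := ⟨fv σ.symm y, funext fun i => (σ.apply_symm_apply _).symm⟩
    have hu : u ≠ 0 := fun e => hx (funext fun i => by simp [fv, e])
    have hv : v ≠ 0 := fun e => hy (funext fun i => by simp [fv, e])
    obtain ⟨a, ha, hau⟩ := hgσ u hu
    obtain ⟨b, hb, hbv⟩ := hgσ v hv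
    rw [form_fv, map_eq_zero_iff σ σ.injective, horth u v hu hv, hau, hbv, sympForm_smul_left,
      sympForm_smul_right, mul_eq_zero, or_iff_right ha, mul_eq_zero, or_iff_right hb]
  obtain ⟨β, hβ⟩ := AutPSL.exists_induced (rho_injective (m := m) (F := F)) (normalises hg σ)
  have hone : β⁻¹ * α = 1 := by
    refine eq_one_of_fix fun v hv => ?_
    obtain ⟨a, ha, hav⟩ := hgσ v hv
    rw [show (β⁻¹ * α).toMonoidHom = (β⁻¹).toMonoidHom.comp α.toMonoidHom from rfl,
      ← Subgroup.map_map, hmap v hv, hav, tbar_smul ha, ← map_tbar_of_induced hg hβ,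
      Subgroup.map_map]
    convert Subgroup.map_id _
    exact MonoidHom.ext fun x => β.symm_apply_apply x
  refine ⟨g, σ, hg, ?_⟩
  rwa [inv_mul_eq_one.1 hone] at hβ

end Cfsg.Agent.CG26.AutPSp
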