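import Cfsg.Agent.CG26.AutPSp.Involution
import Cfsg.Agent.CG26.AutPSp.Geometry

/-!
In characteristic two transvections are singled out among the involutions of `PSp_{2m}(q)`, `m ≥ 3`; for
`m = 2` there is one further class with the same property.
-/

set_option autoImplicit false

namespace Cfsg.Agent.CG26.AutPSp

open Matrix Symplectic

variable {m : ℕ} {F : Type*} [Field F] [CharP F 2]

/-- The image of a transvection. -/
def IsTv (x : Cfsg.PSp m F) : Prop :=
  ∃ (v : Vec m F) (c : F), v ≠ 0 ∧ c ≠ 0 ∧ x = pi m F (tv v c)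

/-- An involution whose product with no conjugate has order four. -/
def Good {G : Type*} [Group G] (x : G) : Prop :=
  x * x = 1 ∧ x ≠ 1 ∧ ∀ g : G, (x * (g * x * g⁻¹)) ^ 4 = 1 → (x * (g * x * g⁻¹)) ^ 2 = 1

theorem Good.map {G H : Type*} [Group G] [Group H] {x : G} (h : Good x) (e : G ≃* H) :
    Good (e x) := by
  refine ⟨by rw [← map_mul, h.1, map_one], fun h1 => h.2.1 (e.injective (h1.trans (map_one e).symm)),
    fun g hg => ?_⟩
  obtain ⟨g, rfl⟩ := e.surjective g
  rw [← map_inv, ← map_mul, ← map_mul, ← map_mul, ← map_pow] at hg ⊢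
  rw [h.2.2 g (e.injective (hg.trans (map_one e).symm)), map_one]

theorem negOne_eq_one : (negOne : Sp m F) = 1 :=
  eq_of_smul_eq fun v => by
    rw [negOne_smul, one_smul]
    exact funext fun i => CharTwo.neg_eq (v i)

theorem pi_injective : Function.Injective (pi m F) := by
  intro a b h
  obtain ⟨z, hz, he⟩ := (QuotientGroup.mk'_eq_mk' _).1 h
  rcases mem_center_iff.1 hz with rfl | rfl
  · rw [← he, mul_one]
  · rw [← he, negOne_eq_one, mul_one]

theorem good_tv {v : Vec m F} (hv : v ≠ 0) {a : F} (ha : a ≠ 0) : Good (tv v a) := by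
  refine ⟨tv_sq v a, fun h => ha (tv_eq_one hv h), fun g => ?_⟩
  rw [conj_tv]
  set w := g • v
  clear_value w
  by_cases hf : sympForm m F v w = 0
  · intro _
    have hc : Commute (tv v a) (tv w a) := tv_comm_of_fix (tv_smul_of_orth a (by rw [form_symm]; exact hf)) a
    rw [hc.mul_pow, pow_two, pow_two, tv_sq, tv_sq, mul_one]
  · intro h
    exfalso
    set φ := sympForm m F v w with hφ
    have hwv : sympForm m F w v = φ := form_symm w v
    set u := tv v a * tv w a with hu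
    have hlin : ∀ A B : F, u • (A • v + B • w) =
        (A * (1 + a * a * φ * φ) + B * (a * φ)) • v + (A * (a * φ) + B) • w := by
      intro A B
      simp only [hu, mul_smul, tv_smul, sympForm_add_left, sympForm_smul_left, sympForm_self, hwv,
        ← hφ]
      module
    have h1 := congrArg (fun k : Sp m F => sympForm m F (k • ((1 : F) • v + (0 : F) • w)) v) h
    simp only [pow_succ, pow_zero, one_mul, mul_smul, hlin] at h1
    simp only [sympForm_add_left, sympForm_smul_left, sympForm_self, hwv, one_smul] at h1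
    have h2 : a ^ 7 * φ ^ 8 = 0 := by
      linear_combination h1 - (5 * a ^ 3 * φ ^ 4 + 3 * a ^ 5 * φ ^ 6 + 2 * a * φ ^ 2) * CharTwo.two_eq_zero (R := F)
    exact mul_ne_zero (pow_ne_zero 7 ha) (pow_ne_zero 8 hf) h2

variable [Finite F]

/-- Transvections with coefficient one. -/
theorem tv_eq_tv_one (v : Vec m F) (c : F) : ∃ d : F, tv v c = tv (d • v) 1 := by
  obtain ⟨d, rfl⟩ := exists_sq c
  exact ⟨d, by rw [tv_smul_vec, mul_one, pow_two]⟩

theorem isTv_conj {x : Cfsg.PSp m F} (hx : IsTv x) (g : Cfsg.PSp m F) : IsTv (g * x * g⁻¹) := by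
  obtain ⟨v, c, hv, hc, rfl⟩ := hx
  obtain ⟨s, rfl⟩ := QuotientGroup.mk'_surjective _ g
  exact ⟨s • v, c, smul_ne_zero_of_ne_zero s hv, hc, by
    change pi m F s * _ * (pi m F s)⁻¹ = _
    rw [← map_inv, ← map_mul, ← map_mul, conj_tv]⟩

theorem exists_conj_isTv {x y : Cfsg.PSp m F} (hx : IsTv x) (hy : IsTv y) :
    ∃ g, g * x * g⁻¹ = y := by
  obtain ⟨v, c, hv, hc, rfl⟩ := hx
  obtain ⟨w, d, hw, hd, rfl⟩ := hy
  obtain ⟨a, ha⟩ := tv_eq_tv_one v c
  obtain ⟨b, hb⟩ := tv_eq_tv_one w d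
  have hav : a • v ≠ 0 := fun e => hc (tv_eq_one hv (by rw [ha, e]; exact eq_of_smul_eq fun x => by simp [tv_smul]))
  have hbw : b • w ≠ 0 := fun e => hd (tv_eq_one hw (by rw [hb, e]; exact eq_of_smul_eq fun x => by simp [tv_smul]))
  obtain ⟨g, hg⟩ := exists_smul_eq_of_ne_zero hav hbw
  exact ⟨pi m F g, by rw [← map_inv, ← map_mul, ← map_mul, ha, conj_tv, hg, hb]⟩

theorem IsTv.good {x : Cfsg.PSp m F} (hx : IsTv x) : Good x := by
  obtain ⟨v, c, hv, hc, rfl⟩ := hx
  exact (good_tv hv hc).map (MulEquiv.ofBijective (pi m F) ⟨pi_injective, QuotientGroup.mk'_surjective _⟩)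

theorem Good.descend {t : Sp m F} (h : Good (pi m F t)) : Good t := by
  let e := MulEquiv.ofBijective (pi m F) ⟨pi_injective, QuotientGroup.mk'_surjective _⟩
  have := h.map e.symm
  rwa [show e.symm (pi m F t) = t from e.symm_apply_apply t] at this

/-- Frame vectors generate in rank two, and leave room in rank at least three. -/
theorem Frame.exists_extra {W₁ X₁ W₂ X₂ : Vec m F} (hf : Frame W₁ X₁ W₂ X₂) (hm : 3 ≤ m) {T : Sp m F}
    (hT : Fixes T W₁ X₁ W₂ X₂) (hTT : T * T = 1) :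
    ∃ a : Vec m F, a ≠ 0 ∧ T • a = a ∧ sympForm m F a W₁ = 0 ∧ sympForm m F a X₁ = 0 ∧
      sympForm m F a W₂ = 0 ∧ sympForm m F a X₂ = 0 := by
  let L : Vec m F →ₗ[F] (Fin 4 → F) :=
    { toFun := fun y => ![sympForm m F y W₁, sympForm m F y X₁, sympForm m F y W₂, sympForm m F y X₂]
      map_add' := fun y z => by ext i; fin_cases i <;> simp [sympForm_add_left]
      map_smul' := fun c y => by ext i; fin_cases i <;> simp [sympForm_smul_left] }
  have hker : LinearMap.ker L ≠ ⊥ := LinearMap.ker_ne_bot_of_finrank_lt (by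
    rw [Module.finrank_fintype_fun_eq_card, Module.finrank_fintype_fun_eq_card, Fintype.card_sum,
      Fintype.card_fin, Fintype.card_fin]; omega)
  obtain ⟨a, ha, ha0⟩ := (Submodule.ne_bot_iff _).1 hker
  rw [LinearMap.mem_ker] at ha
  have h0 := congrFun ha 0
  have h1 := congrFun ha 1
  have h2 := congrFun ha 2
  have h3 := congrFun ha 3
  simp [L] at h0 h1 h2 h3
  by_cases hTa : T • a = a
  · exact ⟨a, ha0, hTa, h0, h1, h2, h3⟩
  · have hb : ∀ {w : Vec m F}, T • w = w → sympForm m F a w = 0 → sympForm m F (img' T a) w = 0 := by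
      intro w hw haw
      rw [img', sympForm_add_left, haw, add_zero]
      conv_lhs => rw [← hw, sympForm_smul_smul, haw]
    exact ⟨img' T a, fun e => hTa (by
      rw [← sub_eq_zero, sub_eq_add_neg, show -a = a from funext fun i => CharTwo.neg_eq (a i)]
      exact e), fix_img hTT a, hb hT.w₁ h0, hb hT.x₁ h1, hb hT.w₂ h2, hb hT.x₂ h3⟩

theorem Frame.eq_one_of_fixes {W₁ X₁ W₂ X₂ : Vec m F} (hf : Frame W₁ X₁ W₂ X₂) (hm : m = 2)
    {T : Sp m F} (hT : Fixes T W₁ X₁ W₂ X₂) : T = 1 := by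
  let M : (Fin 4 → F) →ₗ[F] Vec m F :=
    { toFun := fun c => c 0 • W₁ + c 1 • X₁ + c 2 • W₂ + c 3 • X₂
      map_add' := fun c d => by simp only [Pi.add_apply]; module
      map_smul' := fun a c => by simp only [Pi.smul_apply, smul_eq_mul, RingHom.id_apply]; module }
  have hinj : Function.Injective M := by
    rw [← LinearMap.ker_eq_bot, LinearMap.ker_eq_bot']
    intro c hc
    have key : ∀ y, sympForm m F (M c) y = 0 := fun y => by rw [hc, sympForm_zero_left]
    have e0 := key X₁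
    have e1 := key W₁
    have e2 := key X₂
    have e3 := key W₂
    simp [M, sympForm_add_left, sympForm_smul_left, form_symm W₁ X₁, form_symm W₂ X₁, form_symm X₂ X₁,
      form_symm W₁ X₂, form_symm W₂ X₂, form_symm W₂ W₁, hf.wx₁, hf.wx₂, hf.x₁w₂, hf.x₂w₁, hf.ww,
      hf.xx] at e0 e1 e2 e3
    ext i; fin_cases i <;> assumption
  have hsurj : Function.Surjective M :=
    (LinearMap.injective_iff_surjective_of_finrank_eq_finrank (by
      rw [Module.finrank_fintype_fun_eq_card, Module.finrank_fintype_fun_eq_card, Fintype.card_sum,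
        Fintype.card_fin, Fintype.card_fin, hm])).1 hinj
  refine eq_of_smul_eq fun y => ?_
  obtain ⟨c, rfl⟩ := hsurj y
  simp only [M, LinearMap.coe_mk, AddHom.coe_mk, smul_add, smul_comm T, hT.w₁, hT.x₁, hT.w₂, hT.x₂,
    one_smul]

/-- A non-transvection which is good is `sh` of an orthogonal pair, and `m = 2`. -/
theorem good_cases {x : Cfsg.PSp m F} (hx : Good x) (hm : 2 ≤ m) :
    IsTv x ∨ (m = 2 ∧ ∃ u v : Vec m F, u ≠ 0 ∧ sympForm m F u v = 0 ∧ (∀ a : F, v ≠ a • u) ∧
      x = pi m F (sh u v 1)) := by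
  obtain ⟨t, rfl⟩ := QuotientGroup.mk'_surjective _ x
  have hg : Good t := Good.descend hx
  rcases involution_cases hg.1 hg.2.1 with ⟨v, hv, rfl⟩ | hA | hB
  · exact Or.inl ⟨v, 1, hv, one_ne_zero, rfl⟩
  · obtain ⟨W₁, X₁, W₂, X₂, T, hf, hT, rfl⟩ := hA
    by_cases hm3 : 3 ≤ m
    · exfalso
      have hTT : T * T = 1 := by
        have hc := sh_comm_of_fix hT.w₁ hT.w₂ (1 : F)
        have h1 : sh W₁ W₂ (1 : F) * sh W₁ W₂ 1 = 1 := eq_of_smul_eq fun x => by
          have w5 : sympForm m F W₂ W₁ = 0 := by rw [form_symm]; exact hf.ww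
          simp only [mul_smul, sh_smul hf.ww, one_smul, sympForm_add_left, sympForm_smul_left,
            sympForm_self, hf.ww, w5]
          match_scalars <;> first | ring1 | (ring_nf; simp only [CharTwo.two_eq_zero, mul_zero])
        have h := hg.1
        rw [show sh W₁ W₂ 1 * T * (sh W₁ W₂ 1 * T) = sh W₁ W₂ 1 * (T * sh W₁ W₂ 1) * T by group, hc,
          ← mul_assoc, h1, one_mul] at h
        exact h
      obtain ⟨a, ha, hTa, a1, a2, a3, a4⟩ := hf.exists_extra hm3 hT hTT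
      obtain ⟨g, h4, h2⟩ := KindA.not_good hg.1 hf hT rfl ha hTa a1 a2 a3 a4
      exact h2 (hg.2.2 g h4)
    · have hm2 : m = 2 := by omega
      refine Or.inr ⟨hm2, W₁, W₂, ?_, hf.ww, ?_, ?_⟩
      · intro e; simpa [e] using hf.wx₁
      · intro a e
        have := hf.wx₂
        rw [e, sympForm_smul_right, hf.x₂w₁, mul_zero] at this
        exact zero_ne_one this
      · rw [hf.eq_one_of_fixes hm2 hT, mul_one]
  · obtain ⟨g, h4, h2⟩ := hB.not_good hg.1
    exact absurd (hg.2.2 g h4) h2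

theorem commute_tv_iff {v : Vec m F} (hv : v ≠ 0) {c : F} (hc : c ≠ 0) (g : Sp m F) :
    g * tv v c = tv v c * g ↔ g • v = v := by
  rw [← mul_inv_eq_iff_eq_mul, conj_tv]
  refine ⟨fun h => ?_, fun h => by rw [h]⟩
  obtain ⟨a, ha⟩ := eq_smul_of_pi_eq hv (smul_ne_zero_of_ne_zero g hv) hc (congrArg (pi m F) h.symm)
  rw [ha, tv_smul_vec] at h
  have h1 : tv v (a ^ 2 * c - c) = 1 := by
    rw [sub_eq_add_neg, ← tv_mul_tv, h, ← tv_inv, mul_inv_cancel]
  have h2 : a ^ 2 = 1 := (mul_eq_right₀ hc).1 (sub_eq_zero.1 (tv_eq_one hv h1))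
  have h3 : (a + 1) ^ 2 = 0 := by
    linear_combination h2 + (1 + a) * CharTwo.two_eq_zero (R := F)
  rw [ha, CharTwo.add_eq_zero.1 ((pow_eq_zero_iff two_ne_zero).1 h3), one_smul]

/-- An automorphism preserving transvections permutes the transvection groups. -/
theorem permTv_of_isTv (α : MulAut (Cfsg.PSp m F)) (h : ∀ x, IsTv x → IsTv (α x)) : PermTv α := by
  haveI : Finite (Cfsg.PSp m F) := Finite.of_surjective _ (QuotientGroup.mk'_surjective _)
  have hinv : ∀ y, IsTv y → ∃ x, IsTv x ∧ α x = y := by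
    intro y hy
    let f : {x : Cfsg.PSp m F // IsTv x} → {x : Cfsg.PSp m F // IsTv x} := fun x => ⟨α x.1, h _ x.2⟩
    have hfi : Function.Injective f := fun a b e => Subtype.ext (α.injective (congrArg Subtype.val e))
    obtain ⟨⟨x, hx⟩, e⟩ := Finite.injective_iff_surjective.mp hfi ⟨y, hy⟩
    exact ⟨x, hx, congrArg Subtype.val e⟩
  intro v hv
  obtain ⟨w, d, hw, hd, he⟩ := h _ ⟨v, 1, hv, one_ne_zero, rfl⟩
  have key : ∀ u c, u ≠ 0 → c ≠ 0 → ∀ u' c', u' ≠ 0 → c' ≠ 0 →
      α (pi m F (tv u c)) = pi m F (tv u' c') →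
      ∀ s : Sp m F, ∀ s', pi m F s' = α (pi m F s) → (s • u = u ↔ s' • u' = u') := by
    intro u c hu hc u' c' hu' hc' e s s' hs
    rw [← commute_tv_iff hu hc, ← commute_tv_iff hu' hc']
    constructor
    · intro h1
      apply pi_injective
      rw [map_mul, map_mul, hs, ← e, ← map_mul, ← map_mul, ← map_mul, ← map_mul, h1]
    · intro h1
      apply pi_injective
      apply α.injective
      rw [map_mul, map_mul, map_mul, map_mul, ← hs, e, ← map_mul, ← map_mul, h1]
  have sep : ∀ u u' : Vec m F, u ≠ 0 → u' ≠ 0 → (∀ s : Sp m F, s • u = u ↔ s • u' = u') →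
      ∃ a : F, u' = a • u := by
    intro u u' hu hu' hh
    obtain ⟨a, b, hab⟩ := (exists_comb_iff u u u').2 fun y hy h1 _ => by
      have e : tv y 1 • u = u := tv_smul_of_orth 1 h1
      have e' := (hh _).1 e
      rw [tv_smul, one_mul, add_eq_left, smul_eq_zero] at e'
      exact e'.resolve_right hy
    exact ⟨a + b, by rw [hab, add_smul]⟩
  refine ⟨w, hw, Subgroup.ext fun y => ⟨?_, fun hy => ?_⟩⟩
  · rintro ⟨x, hx, rfl⟩
    obtain ⟨c, rfl⟩ := mem_tbar.1 hx
    by_cases hc : c = 0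
    · rw [hc, tv_zero, map_one, map_one]; exact one_mem _
    obtain ⟨u, b, hu, hb, hub⟩ := h _ ⟨v, c, hv, hc, rfl⟩
    obtain ⟨a, rfl⟩ := sep w u hw hu fun s' => by
      obtain ⟨s, hs⟩ := QuotientGroup.mk'_surjective _ (α.symm (pi m F s'))
      have hs' : pi m F s' = α (pi m F s) := by
        rw [show pi m F s = α.symm (pi m F s') from hs, MulEquiv.apply_symm_apply]
      rw [← key v 1 hv one_ne_zero w d hw hd he s s' hs', key v c hv hc u b hu hb hub s s' hs']
    show α (pi m F (tv v c)) ∈ tbar w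
    rw [hub, tv_smul_vec]
    exact mem_tbar.2 ⟨_, rfl⟩
  · obtain ⟨e, rfl⟩ := mem_tbar.1 hy
    by_cases he0 : e = 0
    · rw [he0, tv_zero, map_one]; exact one_mem _
    obtain ⟨x, hx, hxy⟩ := hinv _ ⟨w, e, hw, he0, rfl⟩
    obtain ⟨u, c, hu, hc, rfl⟩ := hx
    obtain ⟨a, rfl⟩ := sep v u hv hu fun s => by
      obtain ⟨s', hs⟩ := QuotientGroup.mk'_surjective _ (α (pi m F s))
      rw [key v 1 hv one_ne_zero w d hw hd he s s' hs, key u c hu hc w e hw he0 hxy s s' hs]
    exact ⟨_, mem_tbar.2 ⟨a ^ 2 * c, by rw [tv_smul_vec]⟩, hxy⟩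

/-- For `m ≥ 3` automorphisms preserve transvections. -/
theorem permTv_of_even (hm : 3 ≤ m) (α : MulAut (Cfsg.PSp m F)) : PermTv α := by
  refine permTv_of_isTv α fun x hx => ?_
  rcases good_cases (hx.good.map α) (by omega) with h | ⟨h2, -⟩
  · exact h
  · omega

/-- For `m = 2` an automorphism moving one transvection out of the class corrects all others. -/
theorem permTv_or (hm : m = 2) {τ : MulAut (Cfsg.PSp m F)} {x₀ : Cfsg.PSp m F} (hx₀ : IsTv x₀)
    (hτ : ¬ IsTv (τ x₀)) (α : MulAut (Cfsg.PSp m F)) : PermTv α ∨ PermTv (τ⁻¹ * α) := by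
  by_cases h : IsTv (α x₀)
  · refine Or.inl (permTv_of_isTv α fun x hx => ?_)
    obtain ⟨g, rfl⟩ := exists_conj_isTv hx₀ hx
    rw [map_mul, map_mul, map_inv]
    exact isTv_conj h _
  · refine Or.inr (permTv_of_isTv _ fun x hx => ?_)
    obtain ⟨g, rfl⟩ := exists_conj_isTv hx₀ hx
    rcases good_cases (hx₀.good.map α) hm.ge with h1 | ⟨-, u, v, hu, huv, hli, e1⟩
    · exact absurd h1 h
    rcases good_cases (hx₀.good.map τ) hm.ge with h2 | ⟨-, u', v', hu', huv', hli', e2⟩
    · exact absurd h2 hτ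
    obtain ⟨k, hk, hk'⟩ := exists_smul_orth_pair hm.ge hu' hu huv' hli' huv hli
    have e3 : α x₀ = pi m F k * τ x₀ * (pi m F k)⁻¹ := by
      rw [e1, e2, ← map_inv, ← map_mul, ← map_mul, conj_sh, hk, hk']
    rw [MulAut.mul_apply, map_mul α, map_mul α, map_inv α, e3, map_mul, map_mul, map_inv, map_mul,
      map_mul, map_inv, MulAut.inv_apply_self]
    exact isTv_conj (isTv_conj hx₀ _) _

end Cfsg.Agent.CG26.AutPSp
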