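import Cfsg.Agent.CG26.AutPSp.OddTransv
import Cfsg.Agent.CG26.AutPSp.EvenTransv

/-!
Every automorphism of `PSp_{2m}(q)` is semilinear, except in the case `m = 2`, `q` even.
-/

set_option autoImplicit false

namespace Cfsg.Agent.CG26.AutPSp

open Matrix Symplectic

variable {m : ℕ} {F : Type*} [Field F] [Finite F]

theorem exists_semi (hm : 2 ≤ m) (h4 : m = 2 → (2 : F) ≠ 0) (α : MulAut (Cfsg.PSp m F)) :
    ∃ (g : GL (Fin m ⊕ Fin m) F) (σ : F ≃+* F), g ∈ Cfsg.GSp m F ∧
      AutPSL.Induced (rho m F) g σ α := by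
  refine exists_semilinear_of_perm hm α ?_
  haveI := Fact.mk (CharP.char_is_prime F (ringChar F))
  by_cases h2 : (2 : F) = 0
  · have : CharP F 2 := CharTwo.of_one_ne_zero_of_two_eq_zero one_ne_zero h2
    exact permTv_of_even (by
      rcases Nat.lt_or_ge m 3 with h | h
      · exact absurd h2 (h4 (by omega))
      · exact h) α
  · exact permTv_of_odd (ringChar F) h2 (by omega) α

/-- The image of `PΓSp` is the whole automorphism group. -/
theorem gammaPSp_eq_top (hm : 2 ≤ m) (h4 : m = 2 → (2 : F) ≠ 0) : Cfsg.gammaPSp m F = ⊤ := by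
  rw [eq_top_iff]
  intro α _
  obtain ⟨g, σ, hg, h⟩ := exists_semi hm h4 α
  exact Subgroup.subset_closure ⟨g, σ, hg, (induced_iff g σ α).2 h⟩

end Cfsg.Agent.CG26.AutPSp
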