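import Cfsg.Agent.CG26.AutPSp.Main

/-!
The graph automorphism of `Sp_4(F)`, `F` perfect of characteristic two, from the action on the
four-dimensional section `ω^⊥/⟨ω⟩` of the exterior square, written by `2 × 2` minors.
-/

set_option autoImplicit false

namespace Cfsg.Agent.CG26.AutPSp

open Matrix Symplectic

variable {F : Type*} [Field F]

/-- The index type. -/
abbrev Ix := Fin 2 ⊕ Fin 2

/-- The four pairs of indices spanning the section. -/
def pr : Ix → Ix × Ix
  | Sum.inl i => if i = 0 then (Sum.inl 0, Sum.inl 1) else (Sum.inl 0, Sum.inr 1)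
  | Sum.inr i => if i = 0 then (Sum.inr 0, Sum.inr 1) else (Sum.inr 0, Sum.inl 1)

/-- A minor. -/
def minor (A : Matrix Ix Ix F) (a b k l : Ix) : F := A a k * A b l - A a l * A b k

/-- The matrix of minors. -/
def ext2 (A : Matrix Ix Ix F) : Matrix Ix Ix F :=
  Matrix.of fun i j => minor A (pr i).1 (pr i).2 (pr j).1 (pr j).2

variable [CharP F 2]

theorem row_rel {A : Matrix Ix Ix F} (hA : A ∈ Matrix.symplecticGroup (Fin 2) F) (a b : Ix)
    (h : Matrix.J (Fin 2) F a b = 0) :
    minor A a b (Sum.inl 0) (Sum.inr 0) + minor A a b (Sum.inl 1) (Sum.inr 1) = 0 := by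
  have h1 := congrFun (congrFun (SymplecticGroup.mem_iff.1 hA) a) b
  rw [h] at h1
  simp only [Matrix.mul_apply, Matrix.J, Matrix.transpose_apply, Fintype.sum_sum_type,
    Fin.sum_univ_two, Matrix.fromBlocks_apply₁₁, Matrix.fromBlocks_apply₁₂,
    Matrix.fromBlocks_apply₂₁, Matrix.fromBlocks_apply₂₂, Matrix.zero_apply, Matrix.neg_apply,
    Matrix.one_apply_eq, Matrix.one_apply_ne (show (0 : Fin 2) ≠ 1 by decide),
    Matrix.one_apply_ne (show (1 : Fin 2) ≠ 0 by decide)] at h1
  simp only [minor]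
  linear_combination -h1

theorem col_rel {A : Matrix Ix Ix F} (hA : A ∈ Matrix.symplecticGroup (Fin 2) F) (k l : Ix) :
    minor A (Sum.inl 0) (Sum.inr 0) k l + minor A (Sum.inl 1) (Sum.inr 1) k l =
      -Matrix.J (Fin 2) F k l := by
  have h1 := congrFun (congrFun (SymplecticGroup.mem_iff'.1 hA) k) l
  rw [← h1]
  simp only [Matrix.mul_apply, Matrix.J, Matrix.transpose_apply, Fintype.sum_sum_type,
    Fin.sum_univ_two, Matrix.fromBlocks_apply₁₁, Matrix.fromBlocks_apply₁₂,
    Matrix.fromBlocks_apply₂₁, Matrix.fromBlocks_apply₂₂, Matrix.zero_apply, Matrix.neg_apply,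
    Matrix.one_apply_eq, Matrix.one_apply_ne (show (0 : Fin 2) ≠ 1 by decide),
    Matrix.one_apply_ne (show (1 : Fin 2) ≠ 0 by decide)]
  simp only [minor]
  ring

theorem pr_J (i : Ix) : Matrix.J (Fin 2) F (pr i).1 (pr i).2 = 0 := by
  rcases i with i | i <;> fin_cases i <;> simp [pr, Matrix.J]

theorem ext2_mul {A B : Matrix Ix Ix F} (hA : A ∈ Matrix.symplecticGroup (Fin 2) F)
    (hB : B ∈ Matrix.symplecticGroup (Fin 2) F) : ext2 (A * B) = ext2 A * ext2 B := by
  ext i j
  have ra := row_rel hA _ _ (pr_J (F := F) i)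
  have rb := col_rel hB (pr j).1 (pr j).2
  rw [pr_J, neg_zero] at rb
  rw [Matrix.mul_apply (M := ext2 A)]
  simp only [ext2, Matrix.of_apply, Fintype.sum_sum_type, Fin.sum_univ_two]
  generalize (pr i).1 = a at *
  generalize (pr i).2 = b at *
  generalize (pr j).1 = k at *
  generalize (pr j).2 = l at *
  simp only [pr, if_true, show ((1 : Fin 2) = 0) = False by simp, if_false]
  simp only [minor, Matrix.mul_apply, Fintype.sum_sum_type, Fin.sum_univ_two] at ra rb ⊢
  linear_combination (B (Sum.inl 1) k * B (Sum.inr 1) l - B (Sum.inl 1) l * B (Sum.inr 1) k) * ra +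
    (A a (Sum.inl 0) * A b (Sum.inr 0) - A a (Sum.inr 0) * A b (Sum.inl 0)) * rb -
    (A a (Sum.inl 0) * A b (Sum.inr 0) - A a (Sum.inr 0) * A b (Sum.inl 0)) *
      (B (Sum.inl 1) k * B (Sum.inr 1) l - B (Sum.inl 1) l * B (Sum.inr 1) k) *
      CharTwo.two_eq_zero (R := F)

theorem ext2_mem {A : Matrix Ix Ix F} (hA : A ∈ Matrix.symplecticGroup (Fin 2) F) :
    ext2 A ∈ Matrix.symplecticGroup (Fin 2) F := by
  rw [SymplecticGroup.mem_iff']
  ext i j
  have r1 := col_rel hA (pr i).1 (pr i).2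
  have r2 := col_rel hA (pr j).1 (pr j).2
  have c1 := col_rel hA (pr i).1 (pr j).1
  have c2 := col_rel hA (pr i).2 (pr j).2
  have c3 := col_rel hA (pr i).1 (pr j).2
  have c4 := col_rel hA (pr i).2 (pr j).1
  rw [pr_J, neg_zero] at r1 r2
  have hJ : Matrix.J (Fin 2) F (pr i).1 (pr j).1 * Matrix.J (Fin 2) F (pr i).2 (pr j).2 +
      Matrix.J (Fin 2) F (pr i).1 (pr j).2 * Matrix.J (Fin 2) F (pr i).2 (pr j).1 =
      Matrix.J (Fin 2) F i j := by
    rcases i with i | i <;> rcases j with j | j <;> fin_cases i <;> fin_cases j <;>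
      simp [pr, Matrix.J, CharTwo.neg_eq]
  rw [← hJ]
  simp only [CharTwo.neg_eq] at c1 c2 c3 c4
  rw [← c1, ← c2, ← c3, ← c4]
  simp only [Matrix.mul_apply, Matrix.transpose_apply, ext2, Matrix.of_apply,
    Fintype.sum_sum_type, Fin.sum_univ_two]
  generalize (pr i).1 = a at *
  generalize (pr i).2 = b at *
  generalize (pr j).1 = c at *
  generalize (pr j).2 = d at *
  simp only [pr, Matrix.J, Matrix.fromBlocks_apply₁₁, Matrix.fromBlocks_apply₁₂,
    Matrix.fromBlocks_apply₂₁, Matrix.fromBlocks_apply₂₂, Matrix.zero_apply, Matrix.neg_apply,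
    Matrix.one_apply_eq, Matrix.one_apply_ne (show (0 : Fin 2) ≠ 1 by decide),
    Matrix.one_apply_ne (show (1 : Fin 2) ≠ 0 by decide), CharTwo.neg_eq,
    if_true, show ((1 : Fin 2) = 0) = False by simp, if_false]
  simp only [minor, CharTwo.sub_eq_add] at r1 r2 ⊢
  linear_combination (norm := skip) (A (Sum.inl 1) c * A (Sum.inr 1) d + A (Sum.inl 1) d * A (Sum.inr 1) c) * r1 +
    (A (Sum.inl 0) a * A (Sum.inr 0) b + A (Sum.inl 0) b * A (Sum.inr 0) a) * r2
  ring_nf
  simp only [CharTwo.two_eq_zero, three_eq_one, four_eq_zero, mul_zero, mul_one, add_zero, zero_add,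
    sub_zero, CharTwo.sub_eq_add, CharTwo.neg_eq]

theorem ext2_one : ext2 (1 : Matrix Ix Ix F) = 1 := by
  ext i j
  rcases i with i | i <;> rcases j with j | j <;> fin_cases i <;> fin_cases j <;>
    simp [ext2, minor, pr, Matrix.one_apply]

/-- The graph endomorphism. -/
def graphHom : Sp 2 F →* Sp 2 F where
  toFun s := ⟨ext2 s.1, ext2_mem s.2⟩
  map_one' := Subtype.ext ext2_one
  map_mul' s t := Subtype.ext (ext2_mul s.2 t.2)

theorem graph_tv_fI :
    (graphHom (tv (eI (0 : Fin 2)) (1 : F)) • (fI 0 : Vec 2 F) = fI 0 + eI 1) ∧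
      (graphHom (tv (eI (0 : Fin 2)) (1 : F)) • (fI 1 : Vec 2 F) = fI 1 + eI 0) := by
  constructor <;>
  · funext i
    rcases i with i | i <;> fin_cases i <;>
      simp [graphHom, Submonoid.smul_def, fI, eI, ext2, minor, pr, tv, sympTransvection,
        Matrix.vecMulVec_apply, Matrix.one_apply, Matrix.J]

variable [Finite F]

theorem graphHom_bijective (h : 3 ≤ Nat.card F) : Function.Bijective (graphHom (F := F)) := by
  letI : Fintype F := Fintype.ofFinite F
  refine Finite.injective_iff_bijective.mp ((MonoidHom.ker_eq_bot_iff _).1 ?_)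
  have hsimple := isSimpleGroup_PSp (F := F) (m := 2) le_rfl
    (commutator_eq_top (Or.inr (Or.inl ⟨rfl, by rwa [← Nat.card_eq_fintype_card]⟩)))
  let e := MulEquiv.ofBijective (pi 2 F) ⟨pi_injective, QuotientGroup.mk'_surjective _⟩
  have : IsSimpleGroup (Sp 2 F) := e.isSimpleGroup
  rcases (MonoidHom.normal_ker (graphHom (F := F))).eq_bot_or_eq_top with h1 | h1
  · exact h1
  · exfalso
    have h2 : graphHom (tv (eI (0 : Fin 2)) (1 : F)) = 1 :=
      MonoidHom.mem_ker.1 (h1 ▸ Subgroup.mem_top _)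
    have h3 := graph_tv_fI (F := F)
    rw [h2, one_smul, left_eq_add] at h3
    exact eI_ne_zero 1 h3.1

/-- The graph endomorphism moves a transvection out of its class. -/
theorem not_isTv_graph : ¬ IsTv (pi 2 F (graphHom (tv (eI (0 : Fin 2)) (1 : F)))) := by
  rintro ⟨v, c, -, -, hvc⟩
  obtain ⟨h1, h2⟩ := graph_tv_fI (F := F)
  rw [pi_injective hvc, tv_smul, add_right_inj] at h1 h2
  have a := congrFun h1 (Sum.inl 0)
  have b := congrFun h2 (Sum.inl 0)
  have d := congrFun h1 (Sum.inl 1)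
  simp [eI] at a b d
  rcases a with ha | ha
  · rcases ha with ha | ha <;> simp [ha] at d
  · simp [ha] at b

/-- In characteristic two an automorphism of `PSp_4(q)` moves a transvection out of its class. -/
theorem exists_graph (h : 3 ≤ Nat.card F) :
    ∃ (τ : MulAut (Cfsg.PSp 2 F)) (x₀ : Cfsg.PSp 2 F), IsTv x₀ ∧ ¬ IsTv (τ x₀) := by
  let e := MulEquiv.ofBijective (pi 2 F) ⟨pi_injective, QuotientGroup.mk'_surjective _⟩
  refine ⟨e.symm.trans ((MulEquiv.ofBijective graphHom (graphHom_bijective h)).trans e),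
    pi 2 F (tv (eI 0) 1), ⟨eI 0, 1, eI_ne_zero 0, one_ne_zero, rfl⟩, ?_⟩
  rw [show (e.symm.trans ((MulEquiv.ofBijective graphHom (graphHom_bijective h)).trans e))
      (pi 2 F (tv (eI 0) 1)) = pi 2 F (graphHom (tv (eI 0) 1)) from by
    show e ((MulEquiv.ofBijective graphHom _) (e.symm (e (tv (eI 0) 1)))) = _
    rw [e.symm_apply_apply]; rfl]
  exact not_isTv_graph

end Cfsg.Agent.CG26.AutPSp
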