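import Cfsg.Agent.CG26.AutPSp.Basic

/-!
Involutions of `Sp_{2m}(F)`, `F` perfect of characteristic two: transvections, and the two kinds of
involutions with two-dimensional or larger image, each of which has a conjugate with product of order four
(for the alternating kind this needs `m ≥ 3`).
-/

set_option autoImplicit false

namespace Cfsg.Agent.CG26.AutPSp

open Matrix Symplectic

variable {m : ℕ} {F : Type*} [Field F]

theorem form_symm [CharP F 2] (u v : Vec m F) : sympForm m F u v = sympForm m F v u := by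
  rw [sympForm_swap, CharTwo.neg_eq]

theorem three_eq_one [CharP F 2] : (3 : F) = 1 := by
  linear_combination CharTwo.two_eq_zero (R := F)

theorem four_eq_zero [CharP F 2] : (4 : F) = 0 := by
  linear_combination 2 * CharTwo.two_eq_zero (R := F)

/-- Two orthogonal hyperbolic pairs. -/
structure Frame (W₁ X₁ W₂ X₂ : Vec m F) : Prop where
  wx₁ : sympForm m F X₁ W₁ = 1
  wx₂ : sympForm m F X₂ W₂ = 1
  x₁w₂ : sympForm m F X₁ W₂ = 0
  x₂w₁ : sympForm m F X₂ W₁ = 0
  ww : sympForm m F W₁ W₂ = 0
  xx : sympForm m F X₁ X₂ = 0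

/-- `t` fixes the four vectors of a frame. -/
structure Fixes (t : Sp m F) (W₁ X₁ W₂ X₂ : Vec m F) : Prop where
  w₁ : t • W₁ = W₁
  x₁ : t • X₁ = X₁
  w₂ : t • W₂ = W₂
  x₂ : t • X₂ = X₂

theorem vec_add_self [CharP F 2] (v : Vec m F) : v + v = 0 := funext fun _ => CharTwo.add_self_eq_zero _

theorem conj_sh (g : Sp m F) (u v : Vec m F) (a : F) :
    g * sh u v a * g⁻¹ = sh (g • u) (g • v) a := by
  simp only [sh, ← conj_tv, ← smul_add]
  group

theorem tv_comm_of_fix {t : Sp m F} {w : Vec m F} (h : t • w = w) (c : F) :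
    t * tv w c = tv w c * t := by
  rw [← mul_inv_eq_iff_eq_mul, conj_tv, h]

theorem sh_comm_of_fix {t : Sp m F} {u v : Vec m F} (hu : t • u = u) (hv : t • v = v) (a : F) :
    t * sh u v a = sh u v a * t := by
  rw [← mul_inv_eq_iff_eq_mul, conj_sh, hu, hv]

theorem commute_conj {T g t : Sp m F} (h : T * g = g * T) (h' : T * t = t * T) :
    T * (g * t * g⁻¹) = g * t * g⁻¹ * T := by
  have h2 : T * g⁻¹ = g⁻¹ * T := (Commute.inv_right (h : Commute T g)).eq
  calc T * (g * t * g⁻¹) = T * g * t * g⁻¹ := by group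
    _ = g * (T * t) * g⁻¹ := by rw [h]; group
    _ = g * t * (T * g⁻¹) := by rw [h']; group
    _ = g * t * g⁻¹ * T := by rw [h2]; group

section CharTwo

variable [CharP F 2]

/-- The bilinear form of an involution. -/
def bil (t : Sp m F) (x y : Vec m F) : F := sympForm m F x (t • y) + sympForm m F x y

variable {t : Sp m F} (ht : t * t = 1)

omit [CharP F 2] in
include ht in
theorem smul_smul_of_sq (x : Vec m F) : t • t • x = x := by rw [smul_smul, ht, one_smul]

include ht in
theorem bil_symm (x y : Vec m F) : bil t x y = bil t y x := by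
  have h : sympForm m F x (t • y) = sympForm m F y (t • x) := by
    rw [← sympForm_smul_smul t x, smul_smul_of_sq ht, form_symm]
  rw [bil, bil, h, form_symm x y]

omit [CharP F 2] in
theorem bil_add_right (x y z : Vec m F) : bil t x (y + z) = bil t x y + bil t x z := by
  simp only [bil, smul_add, sympForm_add_right]; ring

omit [CharP F 2] in
theorem bil_smul_right (a : F) (x y : Vec m F) : bil t x (a • y) = a * bil t x y := by
  simp only [bil, smul_comm t, sympForm_smul_right]; ring

omit [CharP F 2] in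
theorem bil_smul_left (a : F) (x y : Vec m F) : bil t (a • x) y = a * bil t x y := by
  simp only [bil, sympForm_smul_left]; ring

omit [CharP F 2] in
theorem bil_add_left (x y z : Vec m F) : bil t (x + y) z = bil t x z + bil t y z := by
  simp only [bil, sympForm_add_left]; ring

/-- The image vector. -/
def img' (t : Sp m F) (x : Vec m F) : Vec m F := t • x + x

omit [CharP F 2] in
theorem form_img (x y : Vec m F) : sympForm m F x (img' t y) = bil t x y := by
  rw [img', sympForm_add_right, bil]

omit [CharP F 2] in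
include ht in
theorem fix_img (x : Vec m F) : t • img' t x = img' t x := by
  rw [img', smul_add, smul_smul_of_sq ht, add_comm]

include ht in
theorem form_img_img (x y : Vec m F) : sympForm m F (img' t x) (img' t y) = 0 := by
  rw [form_img, bil, img', sympForm_add_left, sympForm_add_left, sympForm_smul_smul]
  have h : sympForm m F x (t • y) = sympForm m F (t • x) y := by
    rw [← sympForm_smul_smul t x, smul_smul_of_sq ht]
  rw [h]
  linear_combination (sympForm m F x y + sympForm m F (t • x) y) * CharTwo.two_eq_zero (R := F)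

omit [CharP F 2] in
theorem bil_img_left (z : Vec m F) {w : Vec m F} (hw : t • w = w) (h2 : (2 : F) = 0) :
    bil t w z = 0 := by
  rw [bil]
  have : sympForm m F w (t • z) = sympForm m F w z := by
    conv_lhs => rw [← hw, sympForm_smul_smul]
  rw [this, ← two_mul, h2, zero_mul]

/-- The two kinds. -/
def KindA (t : Sp m F) : Prop :=
  ∃ (W₁ X₁ W₂ X₂ : Vec m F) (T : Sp m F), Frame W₁ X₁ W₂ X₂ ∧ Fixes T W₁ X₁ W₂ X₂ ∧
    t = sh W₁ W₂ 1 * T

/-- The non-alternating kind. -/
def KindB (t : Sp m F) : Prop :=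
  ∃ (W₁ X₁ W₂ X₂ : Vec m F) (T : Sp m F), Frame W₁ X₁ W₂ X₂ ∧ Fixes T W₁ X₁ W₂ X₂ ∧
    t = tv W₁ 1 * tv W₂ 1 * T

include ht in
theorem kindA_of {x y : Vec m F} (hx : bil t x x = 0) (hy : bil t y y = 0) (hxy : bil t x y = 1) :
    KindA t := by
  set a := sympForm m F x y
  set x' := x + a • img' t x with hx'
  have hfr : Frame (img' t y) x' (img' t x) y := by
    have h12 := bil_img_left y (fix_img ht x) CharTwo.two_eq_zero
    have h11 := bil_img_left x (fix_img ht x) CharTwo.two_eq_zero
    refine ⟨?_, ?_, ?_, ?_, form_img_img ht _ _, ?_⟩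
    · rw [form_img, hx', bil_add_left, bil_smul_left, hxy, h12, mul_zero, add_zero]
    · rw [form_img, bil_symm ht, hxy]
    · rw [form_img, hx', bil_add_left, bil_smul_left, hx, h11, mul_zero, add_zero]
    · rw [form_img, hy]
    · rw [hx', sympForm_add_left, sympForm_smul_left, form_symm (img' t x), form_img,
        bil_symm ht y x, hxy, mul_one]
      exact CharTwo.add_self_eq_zero a
  refine ⟨_, _, _, _, (sh (img' t y) (img' t x) 1)⁻¹ * t, hfr, ?_, by group⟩
  have e : sympForm m F (img' t y) (img' t x) = 0 := form_img_img ht _ _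
  refine ⟨?_, ?_, ?_, ?_⟩ <;> rw [mul_smul, inv_smul_eq_iff, sh_smul e]
  · rw [fix_img ht, sympForm_self, e]; simp
  · rw [hfr.x₁w₂, hfr.wx₁, hx', smul_add, smul_comm t, fix_img ht]
    have : t • x = x + img' t x := by
      rw [img', add_left_comm, vec_add_self, add_zero]
    rw [this]
    simp; abel
  · rw [fix_img ht, sympForm_self, form_img_img ht x y]; simp
  · rw [hfr.wx₂, hfr.x₂w₁]
    have : t • y = y + img' t y := by
      rw [img', add_left_comm, vec_add_self, add_zero]
    rw [this]
    simp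

include ht in
theorem kindB_of {x y : Vec m F} (hx : bil t x x = 1) (hy : bil t y y = 1) (hxy : bil t x y = 0) :
    KindB t := by
  set a := sympForm m F x y
  set x' := x + a • img' t y with hx'
  have hfr : Frame (img' t x) x' (img' t y) y := by
    have h21 := bil_img_left x (fix_img ht y) CharTwo.two_eq_zero
    have h22 := bil_img_left y (fix_img ht y) CharTwo.two_eq_zero
    refine ⟨?_, ?_, ?_, ?_, form_img_img ht _ _, ?_⟩
    · rw [form_img, hx', bil_add_left, bil_smul_left, hx, h21, mul_zero, add_zero]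
    · rw [form_img, hy]
    · rw [form_img, hx', bil_add_left, bil_smul_left, hxy, h22, mul_zero, add_zero]
    · rw [form_img, bil_symm ht, hxy]
    · rw [hx', sympForm_add_left, sympForm_smul_left, form_symm (img' t y), form_img, hy, mul_one]
      exact CharTwo.add_self_eq_zero a
  refine ⟨_, _, _, _, (tv (img' t x) 1 * tv (img' t y) 1)⁻¹ * t, hfr, ?_, by group⟩
  have e : sympForm m F (img' t y) (img' t x) = 0 := form_img_img ht _ _
  have e' : sympForm m F (img' t x) (img' t y) = 0 := form_img_img ht _ _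
  refine ⟨?_, ?_, ?_, ?_⟩ <;>
    rw [mul_smul, inv_smul_eq_iff, mul_smul, tv_smul, tv_smul] <;>
    simp only [sympForm_add_left, sympForm_smul_left, e, e', sympForm_self, hfr.x₁w₂, hfr.wx₁, hfr.wx₂, hfr.x₂w₁]
  · simp [fix_img ht]
  · rw [hx', smul_add, smul_comm t, fix_img ht]
    have : t • x = x + img' t x := by
      rw [img', add_left_comm, vec_add_self, add_zero]
    rw [this]
    simp; abel
  · simp [fix_img ht]
  ·
    have : t • y = y + img' t y := by
      rw [img', add_left_comm, vec_add_self, add_zero]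
    rw [this]
    simp

variable [Finite F]

omit ht in
theorem exists_sq (c : F) : ∃ d : F, c = d * d :=
  have : Fintype F := Fintype.ofFinite F
  FiniteField.isSquare_of_char_two (ringChar.eq F 2) c

include ht in
/-- Classification of involutions in characteristic two, as far as needed. -/
theorem involution_cases (hne : t ≠ 1) :
    (∃ v : Vec m F, v ≠ 0 ∧ t = tv v 1) ∨ KindA t ∨ KindB t := by
  by_cases hd : ∀ x, bil t x x = 0
  · refine Or.inr (Or.inl ?_)
    by_contra hA
    refine hne (eq_of_smul_eq fun y => eq_of_form_eq' fun x => ?_)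
    by_contra hh
    have hb : bil t x y ≠ 0 := fun e => hh (by
      rw [one_smul]; exact CharTwo.add_eq_zero.1 e)
    exact hA (kindA_of ht (x := (bil t x y)⁻¹ • x) (y := y)
      (by rw [bil_smul_left, bil_smul_right, hd, mul_zero, mul_zero]) (hd y)
      (by rw [bil_smul_left, inv_mul_cancel₀ hb]))
  · obtain ⟨x₀, hx₀⟩ := not_forall.1 hd
    obtain ⟨d, hd'⟩ := exists_sq (bil t x₀ x₀)
    have hd0 : d ≠ 0 := fun e => hx₀ (by rw [hd', e, mul_zero])
    set x := d⁻¹ • x₀ with hx
    have hxx : bil t x x = 1 := by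
      rw [hx, bil_smul_left, bil_smul_right, hd']; field_simp
    by_cases hk : ∀ y, bil t x y = 0 → bil t y y = 0
    · by_cases hk2 : ∀ y z, bil t x y = 0 → bil t x z = 0 → bil t y z = 0
      · refine Or.inl ⟨img' t x, fun e => one_ne_zero (by rw [← hxx, ← form_img, e, sympForm_zero_right]),
          eq_of_smul_eq fun y => eq_of_form_eq' fun z => ?_⟩
        rw [tv_smul, one_mul, sympForm_add_right, sympForm_smul_right, form_img, form_img]
        have hproj : ∀ w, bil t x (w + bil t x w • x) = 0 := fun w => by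
          rw [bil_add_right, bil_smul_right, hxx, mul_one]
          exact CharTwo.add_self_eq_zero _
        have h := hk2 _ _ (hproj z) (hproj y)
        simp only [bil_add_left, bil_add_right, bil_smul_left, bil_smul_right, hxx,
          bil_symm ht z x] at h
        rw [bil_symm ht y x, bil_symm ht z x]
        have hb : sympForm m F z (t • y) = bil t z y + sympForm m F z y := by
          rw [bil, add_assoc, CharTwo.add_self_eq_zero, add_zero]
        rw [hb]
        linear_combination h - 2 * bil t x z * bil t x y * CharTwo.two_eq_zero (R := F)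
      · push Not at hk2
        obtain ⟨y, z, hy, hz, hyz⟩ := hk2
        exact Or.inr (Or.inl (kindA_of ht (x := (bil t y z)⁻¹ • y) (y := z)
          (by rw [bil_smul_left, bil_smul_right, hk y hy, mul_zero, mul_zero]) (hk z hz)
          (by rw [bil_smul_left, inv_mul_cancel₀ hyz])))
    · push Not at hk
      obtain ⟨y, hy, hyy⟩ := hk
      obtain ⟨e, he⟩ := exists_sq (bil t y y)
      have he0 : e ≠ 0 := fun h => hyy (by rw [he, h, mul_zero])
      exact Or.inr (Or.inr (kindB_of ht (x := x) (y := e⁻¹ • y) hxx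
        (by rw [bil_smul_left, bil_smul_right, he]; field_simp)
        (by rw [bil_smul_right, hy, mul_zero])))
where
  eq_of_form_eq' {a b : Vec m F} (h : ∀ z, sympForm m F z a = sympForm m F z b) : a = b := by
    by_contra hne
    obtain ⟨z, hz, -⟩ := exists_nonorth (sub_ne_zero.2 hne) (sub_ne_zero.2 hne)
    exact hz (by rw [sympForm_swap, sympForm_sub_right, h, sub_self, neg_zero])

omit [Finite F] [CharP F 2] in
/-- Reduction of the product to the frame. -/
theorem prod_conj {t₀ T g : Sp m F} (h : t₀ * t₀ = 1) (ht : (t₀ * T) * (t₀ * T) = 1)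
    (h0 : T * t₀ = t₀ * T) (hg : T * g = g * T) :
    t₀ * T * (g * (t₀ * T) * g⁻¹) = t₀ * (g * t₀ * g⁻¹) := by
  have hT : T * T = 1 := by
    rw [show (t₀ * T) * (t₀ * T) = t₀ * (T * t₀) * T by group, h0,
      show t₀ * (t₀ * T) * T = (t₀ * t₀) * (T * T) by group, h, one_mul] at ht
    exact ht
  have h2 : T * (g * t₀ * g⁻¹) = g * t₀ * g⁻¹ * T := commute_conj hg h0
  have h3 : T * g⁻¹ = g⁻¹ * T := (Commute.inv_right (hg : Commute T g)).eq
  calc t₀ * T * (g * (t₀ * T) * g⁻¹) = t₀ * T * (g * t₀ * (T * g⁻¹)) := by group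
    _ = t₀ * (T * (g * t₀ * g⁻¹)) * T := by rw [h3]; group
    _ = t₀ * (g * t₀ * g⁻¹) * (T * T) := by rw [h2]; group
    _ = _ := by rw [hT, mul_one]

omit [Finite F] in
theorem tv_sq (w : Vec m F) (c : F) : tv w c * tv w c = 1 := by
  rw [tv_mul_tv, CharTwo.add_self_eq_zero, tv_zero]

omit [Finite F] in
/-- Order four product for the non-alternating kind. -/
theorem KindB.not_good {t : Sp m F} (ht : t * t = 1) (h : KindB t) :
    ∃ g : Sp m F, (t * (g * t * g⁻¹)) ^ 4 = 1 ∧ (t * (g * t * g⁻¹)) ^ 2 ≠ 1 := by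
  obtain ⟨W₁, X₁, W₂, X₂, T, hf, hT, rfl⟩ := h
  set g := tv (W₂ + X₂) 1 * sh W₂ X₁ 1 with hg
  refine ⟨g, ?_⟩
  set t₀ := tv W₁ 1 * tv W₂ 1 with ht₀
  have e1 : sympForm m F W₂ X₁ = 0 := by rw [form_symm, hf.x₁w₂]
  have v1 := hf.wx₁
  have v2 := hf.wx₂
  have v3 := hf.x₁w₂
  have v4 := hf.x₂w₁
  have v5 := hf.ww
  have v6 := hf.xx
  have w1 : sympForm m F W₁ X₁ = 1 := by rw [form_symm]; exact v1
  have w2 : sympForm m F W₂ X₂ = 1 := by rw [form_symm]; exact v2
  have w3 : sympForm m F W₁ X₂ = 0 := by rw [form_symm]; exact v4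
  have w5 : sympForm m F W₂ W₁ = 0 := by rw [form_symm]; exact v5
  have w6 : sympForm m F X₂ X₁ = 0 := by rw [form_symm]; exact v6
  have hgW₁ : g • W₁ = W₁ + X₂ := by
    simp only [hg, mul_smul, sh_smul e1, tv_smul, sympForm_add_left, sympForm_add_right,
      sympForm_smul_left, sympForm_self, v1, v2, v3, v4, v5, w1, w2, w3, w5]
    match_scalars <;> first | ring1 | (ring_nf; simp only [CharTwo.two_eq_zero, three_eq_one, four_eq_zero, mul_zero, mul_one, add_zero, zero_add])
  have hgW₂ : g • W₂ = X₂ := by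
    simp only [hg, mul_smul, sh_smul e1, tv_smul, sympForm_add_left, sympForm_add_right,
      sympForm_smul_left, sympForm_self, v1, v2, v3, v4, v5, e1, w1, w2, w3, w5]
    match_scalars <;> first | ring1 | (ring_nf; simp only [CharTwo.two_eq_zero, three_eq_one, four_eq_zero, mul_zero, mul_one, add_zero, zero_add])
  have h00 : t₀ * t₀ = 1 := by
    have : tv W₂ 1 * tv W₁ 1 = tv W₁ 1 * tv W₂ 1 := tv_comm_of_fix (tv_smul_of_orth _ v5) 1
    rw [ht₀, show tv W₁ 1 * tv W₂ 1 * (tv W₁ 1 * tv W₂ 1) = tv W₁ 1 * (tv W₂ 1 * tv W₁ 1) * tv W₂ 1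
      by group, this, show tv W₁ 1 * (tv W₁ 1 * tv W₂ 1) * tv W₂ 1 =
      (tv W₁ 1 * tv W₁ 1) * (tv W₂ 1 * tv W₂ 1) by group, tv_sq, tv_sq, mul_one]
  have hT0 : T * t₀ = t₀ * T := by
    have h1 : Commute T (tv W₁ 1) := tv_comm_of_fix hT.w₁ 1
    have h2 : Commute T (tv W₂ 1) := tv_comm_of_fix hT.w₂ 1
    exact (h1.mul_right h2).eq
  have hTg : T * g = g * T := by
    have h1 : Commute T (tv (W₂ + X₂) 1) :=
      tv_comm_of_fix (show T • (W₂ + X₂) = W₂ + X₂ by rw [smul_add, hT.w₂, hT.x₂]) 1
    have h2 : Commute T (sh W₂ X₁ 1) := sh_comm_of_fix hT.w₂ hT.x₁ 1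
    exact (h1.mul_right h2).eq
  rw [prod_conj h00 ht hT0 hTg]
  have hs : g * t₀ * g⁻¹ = tv (W₁ + X₂) 1 * tv X₂ 1 := by
    rw [ht₀, ← hgW₁, ← hgW₂, ← conj_tv, ← conj_tv]; group
  rw [hs]
  set u := t₀ * (tv (W₁ + X₂) 1 * tv X₂ 1) with hu
  have hux : ∀ x, u • x = x + sympForm m F x X₂ • W₁ + sympForm m F x W₁ • X₂ +
      (sympForm m F x W₁ + sympForm m F x W₂) • W₂ := by
    intro x
    simp only [hu, ht₀, mul_smul, tv_smul, sympForm_add_left, sympForm_add_right,
      sympForm_smul_left, sympForm_self, v1, v2, v3, v4, v5, v6, e1, w1, w2, w3, w5, w6]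
    match_scalars <;> first | ring1 | (ring_nf; simp only [CharTwo.two_eq_zero, three_eq_one, four_eq_zero, mul_zero, mul_one, add_zero, zero_add])
  clear_value u
  have hu2 : ∀ x, (u ^ 2) • x =
      x + (sympForm m F x W₁ + sympForm m F x W₂) • W₁ + sympForm m F x W₁ • W₂ := by
    intro x
    have dA : sympForm m F (u • x) W₁ = sympForm m F x W₁ := by
      simp only [hux x, sympForm_add_left, sympForm_smul_left, sympForm_self, v4, w5]; ring
    have dB : sympForm m F (u • x) W₂ = sympForm m F x W₂ + sympForm m F x W₁ := by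
      simp only [hux x, sympForm_add_left, sympForm_smul_left, sympForm_self, v2, v5]; ring
    have dD : sympForm m F (u • x) X₂ =
        sympForm m F x X₂ + (sympForm m F x W₁ + sympForm m F x W₂) := by
      simp only [hux x, sympForm_add_left, sympForm_smul_left, sympForm_self, w2, w3]; ring
    rw [pow_two, mul_smul, hux (u • x), dA, dB, dD, hux x]
    match_scalars <;> first | ring1 | (ring_nf; simp only [CharTwo.two_eq_zero, three_eq_one, four_eq_zero, mul_zero, mul_one, add_zero, zero_add])
  refine ⟨eq_of_smul_eq fun x => ?_, fun h => ?_⟩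
  · rw [show u ^ 4 = u ^ 2 * u ^ 2 by group, mul_smul, hu2, one_smul, hu2]
    simp only [sympForm_add_left, sympForm_smul_left, sympForm_self, v5, w5]
    match_scalars <;> first | ring1 | (ring_nf; simp only [CharTwo.two_eq_zero, three_eq_one, four_eq_zero, mul_zero, mul_one, add_zero, zero_add])
  · have h1 := congrArg (fun k : Sp m F => sympForm m F X₁ (k • X₁)) h
    simp [hu2, sympForm_add_right, sympForm_smul_right, v1, v3] at h1

omit [Finite F] in
/-- Order four product for the alternating kind, given a further fixed vector. -/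
theorem KindA.not_good {t W₁ X₁ W₂ X₂ T a : _} (ht : t * t = 1) (hf : Frame (m := m) (F := F) W₁ X₁ W₂ X₂)
    (hT : Fixes T W₁ X₁ W₂ X₂) (ht0 : t = sh W₁ W₂ 1 * T) (ha : a ≠ 0) (hTa : T • a = a)
    (a1 : sympForm m F a W₁ = 0) (a2 : sympForm m F a X₁ = 0) (a3 : sympForm m F a W₂ = 0)
    (a4 : sympForm m F a X₂ = 0) :
    ∃ g : Sp m F, (t * (g * t * g⁻¹)) ^ 4 = 1 ∧ (t * (g * t * g⁻¹)) ^ 2 ≠ 1 := by
  subst ht0
  set g := sh a X₁ 1 * tv (W₂ + X₂) 1 with hg
  refine ⟨g, ?_⟩
  set t₀ := sh W₁ W₂ 1 with ht₀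
  have v1 := hf.wx₁
  have v2 := hf.wx₂
  have v3 := hf.x₁w₂
  have v4 := hf.x₂w₁
  have v5 := hf.ww
  have v6 := hf.xx
  have w1 : sympForm m F W₁ X₁ = 1 := by rw [form_symm]; exact v1
  have w2 : sympForm m F W₂ X₂ = 1 := by rw [form_symm]; exact v2
  have w3 : sympForm m F W₁ X₂ = 0 := by rw [form_symm]; exact v4
  have w4 : sympForm m F W₂ X₁ = 0 := by rw [form_symm]; exact v3
  have w5 : sympForm m F W₂ W₁ = 0 := by rw [form_symm]; exact v5
  have w6 : sympForm m F X₂ X₁ = 0 := by rw [form_symm]; exact v6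
  have b1 : sympForm m F W₁ a = 0 := by rw [form_symm]; exact a1
  have b2 : sympForm m F X₁ a = 0 := by rw [form_symm]; exact a2
  have b3 : sympForm m F W₂ a = 0 := by rw [form_symm]; exact a3
  have b4 : sympForm m F X₂ a = 0 := by rw [form_symm]; exact a4
  have hgW₁ : g • W₁ = W₁ + a := by
    simp only [hg, mul_smul, sh_smul a2, tv_smul, sympForm_add_left, sympForm_add_right,
      sympForm_smul_left, sympForm_self, v5, w1, w3, b1]
    match_scalars <;> first | ring1 | (ring_nf; simp only [CharTwo.two_eq_zero, three_eq_one, four_eq_zero, mul_zero, mul_one, add_zero, zero_add])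
  have hgW₂ : g • W₂ = X₂ := by
    simp only [hg, mul_smul, sh_smul a2, tv_smul, sympForm_add_left, sympForm_add_right,
      sympForm_smul_left, sympForm_self, w2, w4, w6, b3, b4]
    match_scalars <;> first | ring1 | (ring_nf; simp only [CharTwo.two_eq_zero, three_eq_one, four_eq_zero, mul_zero, mul_one, add_zero, zero_add])
  have h00 : t₀ * t₀ = 1 := eq_of_smul_eq fun x => by
    simp only [ht₀, mul_smul, sh_smul v5, one_smul, sympForm_add_left, sympForm_smul_left,
      sympForm_self, v5, w5]
    match_scalars <;> first | ring1 | (ring_nf; simp only [CharTwo.two_eq_zero, three_eq_one, four_eq_zero, mul_zero, mul_one, add_zero, zero_add])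
  have hTg : T * g = g * T := by
    have h1 : Commute T (sh a X₁ 1) := sh_comm_of_fix hTa hT.x₁ 1
    have h2 : Commute T (tv (W₂ + X₂) 1) :=
      tv_comm_of_fix (show T • (W₂ + X₂) = W₂ + X₂ by rw [smul_add, hT.w₂, hT.x₂]) 1
    exact (h1.mul_right h2).eq
  rw [prod_conj h00 ht (sh_comm_of_fix hT.w₁ hT.w₂ 1) hTg]
  have hs : g * t₀ * g⁻¹ = sh (W₁ + a) X₂ 1 := by rw [ht₀, conj_sh, hgW₁, hgW₂]
  rw [hs]
  have e2 : sympForm m F (W₁ + a) X₂ = 0 := by rw [sympForm_add_left, w3, a4, add_zero]
  set u := t₀ * sh (W₁ + a) X₂ 1 with hu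
  have hux : ∀ x, u • x = x + (sympForm m F x X₂ + sympForm m F x W₂ + sympForm m F x W₁ +
      sympForm m F x a) • W₁ + sympForm m F x X₂ • a +
      (sympForm m F x W₁ + sympForm m F x a) • X₂ + sympForm m F x W₁ • W₂ := by
    intro x
    simp only [hu, ht₀, mul_smul, sh_smul v5, sh_smul e2, sympForm_add_left, sympForm_add_right,
      sympForm_smul_left, sympForm_self, v2, v4, v5, a1, a3]
    match_scalars <;> first | ring1 | (ring_nf; simp only [CharTwo.two_eq_zero, three_eq_one, four_eq_zero, mul_zero, mul_one, add_zero, zero_add])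
  clear_value u
  have hu2 : ∀ x, (u ^ 2) • x = x + sympForm m F x a • W₁ + sympForm m F x W₁ • a := by
    intro x
    have dA : sympForm m F (u • x) W₁ = sympForm m F x W₁ := by
      simp only [hux x, sympForm_add_left, sympForm_smul_left, sympForm_self, v4, w5, a1]; ring
    have dB : sympForm m F (u • x) W₂ =
        sympForm m F x W₂ + (sympForm m F x W₁ + sympForm m F x a) := by
      simp only [hux x, sympForm_add_left, sympForm_smul_left, sympForm_self, v2, v5, a3]; ring
    have dD : sympForm m F (u • x) X₂ = sympForm m F x X₂ + sympForm m F x W₁ := by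
      simp only [hux x, sympForm_add_left, sympForm_smul_left, sympForm_self, w2, w3, a4]; ring
    have dE : sympForm m F (u • x) a = sympForm m F x a := by
      simp only [hux x, sympForm_add_left, sympForm_smul_left, sympForm_self, b1, b3, b4]; ring
    rw [pow_two, mul_smul, hux (u • x), dA, dB, dD, dE, hux x]
    match_scalars <;> first | ring1 | (ring_nf; simp only [CharTwo.two_eq_zero, three_eq_one, four_eq_zero, mul_zero, mul_one, add_zero, zero_add])
  refine ⟨eq_of_smul_eq fun x => ?_, fun h => ?_⟩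
  · rw [show u ^ 4 = u ^ 2 * u ^ 2 by group, mul_smul, hu2, one_smul, hu2]
    simp only [sympForm_add_left, sympForm_smul_left, sympForm_self, a1, b1]
    match_scalars <;> first | ring1 | (ring_nf; simp only [CharTwo.two_eq_zero, three_eq_one, four_eq_zero, mul_zero, mul_one, add_zero, zero_add])
  · obtain ⟨y, hy, -⟩ := exists_nonorth ha ha
    have h1 := congrArg (fun k : Sp m F => sympForm m F y (k • X₁)) h
    simp only [hu2, one_smul, b2, v1, zero_smul, add_zero, sympForm_add_right, add_eq_left,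
      one_mul, sympForm_smul_right] at h1
    exact hy (by rw [form_symm]; exact h1)

end CharTwo

end Cfsg.Agent.CG26.AutPSp
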