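import Cfsg.Agent.CG26.AutPSp.Geometry

/-!
In odd characteristic the transvection groups of `PSp_{2m}(q)` are the centres of the Sylow `p`-subgroups,
so every automorphism permutes them.
-/

set_option autoImplicit false

namespace Cfsg.Agent.CG26.AutPSp

open Matrix Symplectic
open scoped Pointwise

variable {m : ℕ} {F : Type*} [Field F]

/-- The unipotent radical of the stabiliser of a vector. -/
def unip (e : Vec m F) : Subgroup (Sp m F) where
  carrier := {g | g • e = e ∧ ∀ y : Vec m F, sympForm m F y e = 0 → ∃ a : F, g • y = y + a • e}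
  one_mem' := ⟨one_smul _ e, fun y _ => ⟨0, by rw [one_smul, zero_smul, add_zero]⟩⟩
  mul_mem' := by
    rintro g h ⟨hg, hg'⟩ ⟨hh, hh'⟩
    refine ⟨by rw [mul_smul, hh, hg], fun y hy => ?_⟩
    obtain ⟨a, ha⟩ := hh' y hy
    obtain ⟨b, hb⟩ := hg' y hy
    exact ⟨b + a, by rw [mul_smul, ha, smul_add, smul_comm g, hg, hb, add_smul, add_assoc]⟩
  inv_mem' := by
    rintro g ⟨hg, hg'⟩
    have hge : g⁻¹ • e = e := by rw [inv_smul_eq_iff, hg]
    refine ⟨hge, fun y hy => ?_⟩
    obtain ⟨a, ha⟩ := hg' y hy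
    refine ⟨-a, ?_⟩
    rw [inv_smul_eq_iff, smul_add, smul_comm g, hg, ha, neg_smul]
    abel

theorem smul_form_left (g : Sp m F) {e : Vec m F} (hg : g • e = e) (x : Vec m F) :
    sympForm m F (g • x) e = sympForm m F x e := by
  conv_lhs => rw [← hg, sympForm_smul_smul]

theorem stab_le_normalizer (e : Vec m F) :
    MulAction.stabilizer (Sp m F) e ≤ Subgroup.normalizer (unip e : Set (Sp m F)) := by
  have key : ∀ k : Sp m F, k • e = e → ∀ g ∈ unip e, k * g * k⁻¹ ∈ unip e := by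
    intro k hk g hg
    have hk' : k⁻¹ • e = e := by rw [inv_smul_eq_iff, hk]
    refine ⟨by rw [mul_smul, mul_smul, hk', hg.1, hk], fun y hy => ?_⟩
    obtain ⟨a, ha⟩ := hg.2 (k⁻¹ • y) (by rw [smul_form_left _ hk', hy])
    exact ⟨a, by rw [mul_smul, mul_smul, ha, smul_add, smul_inv_smul, smul_comm k, hk]⟩
  intro k hk
  rw [MulAction.mem_stabilizer_iff] at hk
  rw [Subgroup.mem_normalizer_iff]
  intro g
  refine ⟨key k hk g, fun h => ?_⟩
  have := key k⁻¹ (by rw [inv_smul_eq_iff, hk]) _ h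
  simpa [mul_assoc] using this

theorem sh_mem_unip {e y : Vec m F} (hy : sympForm m F y e = 0) : sh e y 1 ∈ unip e := by
  have hey : sympForm m F e y = 0 := by rw [sympForm_swap, hy, neg_zero]
  refine ⟨by simp [sh_smul hey, hey], fun x hx => ⟨sympForm m F x y, ?_⟩⟩
  simp [sh_smul hey, hx]

variable (p : ℕ) [CharP F p]

theorem isPGroup_unip (h2 : (2 : F) ≠ 0) (e : Vec m F) : IsPGroup p (unip e) := by
  rintro ⟨g, hg, hg'⟩
  refine ⟨1, Subtype.ext ?_⟩
  rw [pow_one, SubgroupClass.coe_pow, OneMemClass.coe_one]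
  refine eq_of_smul_eq fun x => ?_
  rw [one_smul]
  set z := g • x - x with hz
  obtain ⟨a, ha⟩ := hg' z (by rw [hz, sympForm_sub_left, smul_form_left g hg, sub_self])
  have key : ∀ k : ℕ, g ^ k • x = x + (k : F) • z + ((k : F) * ((k : F) - 1) / 2 * a) • e := by
    intro k
    induction k with
    | zero => simp
    | succ k ih =>
      rw [pow_succ', mul_smul, ih, smul_add, smul_add, smul_comm g (k : F),
        smul_comm g ((k : F) * ((k : F) - 1) / 2 * a), hg, ha,
        show g • x = x + z by rw [hz]; abel, Nat.cast_succ]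
      clear_value z
      match_scalars <;> field_simp <;> ring
  rw [key, CharP.cast_eq_zero]
  simp

theorem fixes_perp_of_commute (h2 : (2 : F) ≠ 0) {e : Vec m F} (he : e ≠ 0) {z : Sp m F}
    (hze : z • e = e) (hcomm : ∀ u ∈ unip e, z * u = u * z) :
    ∀ y : Vec m F, sympForm m F y e = 0 → z • y = y := by
  intro y hy
  have hey : sympForm m F e y = 0 := by rw [sympForm_swap, hy, neg_zero]
  obtain ⟨x, hx, -⟩ := exists_nonorth he he
  have hxe : sympForm m F x e ≠ 0 := by rwa [sympForm_swap, neg_ne_zero]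
  have h : ∀ w : Vec m F, sympForm m F w (z • y) • e + sympForm m F w e • (z • y) =
      sympForm m F w y • e + sympForm m F w e • y := by
    intro w
    have h1 := congrArg (fun k : Sp m F => k • (z⁻¹ • w)) (hcomm _ (sh_mem_unip hy))
    simp only [mul_smul, sh_smul hey, smul_inv_smul, one_mul, smul_add] at h1
    rw [smul_comm z (sympForm m F (z⁻¹ • w) y), smul_comm z (sympForm m F (z⁻¹ • w) e), hze] at h1
    rw [add_assoc, add_assoc, add_right_inj] at h1
    rw [← sympForm_smul_smul z (z⁻¹ • w) y, ← sympForm_smul_smul z (z⁻¹ • w) e, smul_inv_smul,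
      hze] at h1
    exact h1
  set a := (sympForm m F x y - sympForm m F x (z • y)) / sympForm m F x e with ha
  have hzy : z • y = y + a • e := by
    have := h x
    apply smul_right_injective (Vec m F) hxe
    simp only [smul_add, smul_smul, ha, mul_div_cancel₀ _ hxe]
    generalize z • y = zy at this ⊢
    linear_combination (norm := module) this
  have h3 := h x
  rw [hzy, sympForm_add_right, sympForm_smul_right] at h3
  have : (2 * a * sympForm m F x e) • e = 0 := by linear_combination (norm := module) h3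
  rw [hzy, (by simpa [he, hxe, h2] using this : a = 0), zero_smul, add_zero]

theorem eq_tv_of_fixes_perp {e : Vec m F} (he : e ≠ 0) {z : Sp m F}
    (hz : ∀ y : Vec m F, sympForm m F y e = 0 → z • y = y) : ∃ c : F, z = tv e c := by
  have hze : z • e = e := hz e (sympForm_self e)
  obtain ⟨x₀, hx, -⟩ := exists_nonorth he he
  have hxe : sympForm m F x₀ e ≠ 0 := by rwa [sympForm_swap, neg_ne_zero]
  obtain ⟨a, b, hab⟩ := (exists_comb_iff e e (z • x₀ - x₀)).2 fun y _ hy _ => by
    have hy' : sympForm m F y e = 0 := by rw [sympForm_swap, hy, neg_zero]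
    rw [sympForm_sub_left]
    conv_lhs => enter [1]; rw [← hz y hy', sympForm_smul_smul]
    exact sub_self _
  refine ⟨(a + b) / sympForm m F x₀ e, eq_of_smul_eq fun x => ?_⟩
  set t := sympForm m F x e / sympForm m F x₀ e
  have hy := hz (x - t • x₀) (by rw [sympForm_sub_left, sympForm_smul_left, div_mul_cancel₀ _ hxe, sub_self])
  rw [smul_sub, smul_comm z] at hy
  rw [tv_smul]
  have e1 : (a + b) / sympForm m F x₀ e * sympForm m F x e = t * (a + b) := by
    simp only [t]; ring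
  rw [e1]
  generalize z • x = zx at hy ⊢
  generalize z • x₀ = zx₀ at hy hab
  linear_combination (norm := module) hy + t • hab

variable [Finite F] [Fact p.Prime]

theorem exists_fixed (hm : 1 ≤ m) (P : Subgroup (Sp m F)) (hP : IsPGroup p P) :
    ∃ e : Vec m F, e ≠ 0 ∧ ∀ k ∈ P, k • e = e := by
  letI : Fintype F := Fintype.ofFinite F
  obtain ⟨n, -, hn⟩ := FiniteField.card F p
  have hdvd : p ∣ Nat.card (Vec m F) := by
    rw [Nat.card_fun, Nat.card_eq_fintype_card (α := F), hn, ← pow_mul]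
    refine dvd_pow_self p (Nat.mul_ne_zero n.pos.ne' ?_)
    rw [Nat.card_eq_fintype_card, Fintype.card_sum, Fintype.card_fin]
    omega
  obtain ⟨e, he, hne⟩ := hP.exists_fixed_point_of_prime_dvd_card_of_fixed_point (Vec m F) hdvd
    (a := 0) (fun k => smul_zero _)
  exact ⟨e, Ne.symm hne, fun k hk => he ⟨k, hk⟩⟩

/-- The centre of a Sylow subgroup of `PSp` is a transvection group. -/
theorem exists_sylow_center (h2 : (2 : F) ≠ 0) (hm : 1 ≤ m) :
    ∃ (e : Vec m F) (Q : Sylow p (Cfsg.PSp m F)), e ≠ 0 ∧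
      ∀ x, x ∈ tbar e ↔ x ∈ Q ∧ ∀ y ∈ Q, x * y = y * x := by
  classical
  haveI : Finite (Sp m F) := inferInstance
  obtain ⟨P⟩ : Nonempty (Sylow p (Sp m F)) := inferInstance
  obtain ⟨e, he, hPe⟩ := exists_fixed p hm P.1 P.isPGroup'
  have hU : unip e ≤ (P : Subgroup (Sp m F)) := by
    have hle : (P : Subgroup (Sp m F)) ≤ Subgroup.normalizer (unip e : Set (Sp m F)) := fun k hk =>
      stab_le_normalizer e (MulAction.mem_stabilizer_iff.2 (hPe k hk))
    rw [← P.is_maximal' (P.isPGroup'.to_sup_of_normal_right' (isPGroup_unip p h2 e) hle) le_sup_left]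
    exact le_sup_right
  have hsurj : Function.Surjective (pi m F) := QuotientGroup.mk'_surjective _
  have hp2 : p ≠ 2 := fun h => h2 (by subst h; exact CharTwo.two_eq_zero)
  have hcen : ∀ z ∈ (P : Subgroup (Sp m F)), z ∈ Subgroup.center (Sp m F) → z = 1 := by
    intro z hz hzc
    have hsq : z * z = 1 := by
      rcases mem_center_iff.1 hzc with rfl | rfl
      · exact one_mul _
      · exact eq_of_smul_eq fun x => by rw [mul_smul, negOne_smul, negOne_smul, neg_neg, one_smul]
    obtain ⟨k, hk⟩ := P.isPGroup' ⟨z, hz⟩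
    have hk' : z ^ p ^ k = 1 := congrArg Subtype.val hk
    have hodd : Odd (p ^ k) := ((Nat.Prime.odd_of_ne_two Fact.out hp2)).pow
    obtain ⟨j, hj⟩ := hodd
    rwa [hj, pow_succ, pow_mul, pow_two, hsq, one_pow, one_mul] at hk'
  refine ⟨e, P.mapSurjective hsurj, he, fun x => ?_⟩
  have hmem : ∀ y, y ∈ P.mapSurjective hsurj ↔ ∃ k ∈ (P : Subgroup (Sp m F)), pi m F k = y :=
    fun y => Iff.rfl
  constructor
  · intro hx
    obtain ⟨c, rfl⟩ := mem_tbar.1 hx
    refine ⟨(hmem _).2 ⟨_, hU ⟨tv_smul_of_orth c (sympForm_self e), fun y hy => ⟨0, by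
      rw [tv_smul_of_orth c hy, zero_smul, add_zero]⟩⟩, rfl⟩, fun y hy => ?_⟩
    obtain ⟨k, hk, rfl⟩ := (hmem y).1 hy
    rw [← map_mul, ← map_mul]
    refine congrArg _ (Eq.symm ?_)
    rw [← mul_inv_eq_iff_eq_mul, conj_tv, hPe k hk]
  · rintro ⟨hx, hcomm⟩
    obtain ⟨s, hs, rfl⟩ := (hmem x).1 hx
    have hs' : ∀ k ∈ (P : Subgroup (Sp m F)), s * k = k * s := by
      intro k hk
      have h1 : pi m F (s * k * (k * s)⁻¹) = 1 := by
        rw [map_mul, map_inv, map_mul, map_mul, hcomm _ ((hmem _).2 ⟨k, hk, rfl⟩), mul_inv_cancel]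
      exact mul_inv_eq_one.1 (hcen _ (mul_mem (mul_mem hs hk) (inv_mem (mul_mem hk hs)))
        ((QuotientGroup.eq_one_iff _).1 h1))
    obtain ⟨c, rfl⟩ := eq_tv_of_fixes_perp he
      (fixes_perp_of_commute h2 he (hPe s hs) fun u hu => hs' u (hU hu))
    exact mem_tbar.2 ⟨c, rfl⟩

include p in
/-- In odd characteristic every automorphism permutes the transvection groups. -/
theorem permTv_of_odd (h2 : (2 : F) ≠ 0) (hm : 1 ≤ m) (α : MulAut (Cfsg.PSp m F)) : PermTv α := by
  obtain ⟨e, Q, he, hQ⟩ := exists_sylow_center p h2 hm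
  haveI : Finite (Cfsg.PSp m F) := Finite.of_surjective _ (QuotientGroup.mk'_surjective _)
  obtain ⟨g, hg⟩ := MulAction.exists_smul_eq (Cfsg.PSp m F) Q
    (Q.mapSurjective (f := α.toMonoidHom) α.surjective)
  have hmem : ∀ x, α x ∈ (g • Q : Sylow p (Cfsg.PSp m F)) ↔ x ∈ Q := by
    intro x
    rw [hg]
    constructor
    · rintro ⟨y, hy, hxy⟩; rwa [← α.injective hxy]
    · exact fun h => ⟨x, h, rfl⟩
  have hmem' : ∀ x, x ∈ (g • Q : Sylow p (Cfsg.PSp m F)) ↔ g⁻¹ * x * g ∈ Q := by
    intro x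
    show x ∈ MulAut.conj g • (Q : Subgroup (Cfsg.PSp m F)) ↔ _
    rw [Subgroup.mem_pointwise_smul_iff_inv_smul_mem, MulAut.smul_def, MulAut.conj_inv_apply]
    rfl
  set β : MulAut (Cfsg.PSp m F) := (MulAut.conj g)⁻¹ * α with hβ
  have hβx : ∀ x, β x = g⁻¹ * α x * g := fun x => by
    rw [hβ, MulAut.mul_apply, MulAut.conj_inv_apply]
  have hβQ : ∀ x, β x ∈ Q ↔ x ∈ Q := fun x => by rw [hβx, ← hmem', hmem]
  have hfix : (tbar e).map β.toMonoidHom = tbar e := by
    ext x
    obtain ⟨x, rfl⟩ := β.surjective x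
    rw [show (β x ∈ (tbar e).map β.toMonoidHom) ↔ x ∈ tbar e from
      ⟨fun ⟨y, hy, hxy⟩ => by rwa [← β.injective hxy], fun h => ⟨x, h, rfl⟩⟩, hQ, hQ, hβQ]
    refine and_congr_right fun _ => ⟨fun h y hy => ?_, fun h y hy => ?_⟩
    · obtain ⟨y, rfl⟩ := β.surjective y
      rw [← map_mul, ← map_mul, h y ((hβQ y).1 hy)]
    · exact β.injective (by rw [map_mul, map_mul]; exact h _ ((hβQ y).2 hy))
  intro v hv
  obtain ⟨k, rfl⟩ := exists_smul_eq_of_ne_zero he hv
  obtain ⟨s, hs⟩ := QuotientGroup.mk'_surjective (Subgroup.center (Sp m F)) (α (pi m F k) * g)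
  refine ⟨s • e, smul_ne_zero_of_ne_zero s he, ?_⟩
  rw [← map_conj_tbar, ← map_conj_tbar s e]
  conv_rhs => rw [← hfix, Subgroup.map_map]
  rw [Subgroup.map_map]
  congr 1
  refine MonoidHom.ext fun x => ?_
  show α (pi m F k * x * (pi m F k)⁻¹) = pi m F s * β x * (pi m F s)⁻¹
  change pi m F s = _ at hs
  rw [hs, hβx, map_mul, map_mul, map_inv]
  group

end Cfsg.Agent.CG26.AutPSp
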