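import Cfsg.Agent.CG26.AutPSp.Count
import Cfsg.Agent.CG26.FieldAutCard
import Cfsg.Prelude.Def_KGroupFacts

/-!
`Out(PSp_4(2^f))` is cyclic of order `2f`: the square of the graph automorphism is the Frobenius map.
-/

set_option autoImplicit false

namespace Cfsg.Agent.CG26.AutPSp

open Matrix Symplectic

variable {F : Type*} [Field F] [CharP F 2]

/-- Entrywise squaring. -/
def sqHom : Sp 2 F →* Sp 2 F where
  toFun s := ⟨s.1.map (frobenius F 2), SymplecticGroup.map_mem s.2 (frobenius F 2)⟩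
  map_one' := Subtype.ext ((frobenius F 2).mapMatrix.map_one)
  map_mul' s t := Subtype.ext ((frobenius F 2).mapMatrix.map_mul s.1 t.1)

theorem graph_graph_tv (w : Vec 2 F) (c : F) : graphHom (graphHom (tv w c)) = sqHom (tv w c) := by
  refine Subtype.ext (Matrix.ext fun i j => ?_)
  rcases i with i | i <;> rcases j with j | j <;> fin_cases i <;> fin_cases j <;>
  · simp [graphHom, sqHom, ext2, minor, pr, tv, sympTransvection, Matrix.vecMulVec_apply,
      Matrix.one_apply, Matrix.J, frobenius_def, Matrix.mulVec, dotProduct]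
    ring_nf
    try simp [CharTwo.two_eq_zero, CharTwo.sub_eq_add, CharTwo.neg_eq]

theorem graph_graph (s : Sp 2 F) : graphHom (graphHom s) = sqHom s := by
  refine DFunLike.congr_fun (MonoidHom.eq_of_eqOn_dense (closure_transvections (m := 2) (F := F))
    (f := graphHom.comp graphHom) (g := sqHom) ?_) s
  rintro g ⟨w, c, hg⟩
  rw [show g = tv w c from Subtype.ext hg]
  exact graph_graph_tv w c

omit [CharP F 2] in
theorem one_mem_GSp : (1 : GL (Fin 2 ⊕ Fin 2) F) ∈ Cfsg.GSp 2 F := one_mem _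

variable [Finite F]

theorem graphHom_bij : Function.Bijective (graphHom (F := F)) := by
  refine Finite.injective_iff_bijective.mp fun a b h => Subtype.ext (Matrix.ext fun i j => ?_)
  have h2 := congrArg (fun z : Sp 2 F => z.1 i j) (congrArg graphHom h)
  simp only [graph_graph] at h2
  exact frobenius_inj F 2 h2

/-- `Out(PSp_4(2^f))` is cyclic of order `2 f`. -/
theorem out_psp4 {f : ℕ} (hF : Nat.card F = 2 ^ f) :
    IsCyclic (Cfsg.Out (Cfsg.PSp 2 F)) ∧ Nat.card (Cfsg.Out (Cfsg.PSp 2 F)) = 2 * f := by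
  classical
  letI : Fintype F := Fintype.ofFinite F
  haveI : Fact (Nat.Prime 2) := ⟨Nat.prime_two⟩
  haveI : Finite (Cfsg.PSp 2 F) := Finite.of_surjective _ (QuotientGroup.mk'_surjective _)
  haveI : Finite (MulAut (Cfsg.PSp 2 F)) :=
    Finite.of_injective (fun e => (e : Cfsg.PSp 2 F → Cfsg.PSp 2 F)) DFunLike.coe_injective
  let e := MulEquiv.ofBijective (pi 2 F) ⟨pi_injective, QuotientGroup.mk'_surjective _⟩
  let τ : MulAut (Cfsg.PSp 2 F) :=
    e.symm.trans ((MulEquiv.ofBijective graphHom graphHom_bij).trans e)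
  have hτ : ∀ s, τ (pi 2 F s) = pi 2 F (graphHom s) := fun s => by
    show e ((MulEquiv.ofBijective graphHom _) (e.symm (e s))) = _
    rw [e.symm_apply_apply]; rfl
  have hnt : ¬ IsTv (τ (pi 2 F (tv (eI 0) 1))) := by rw [hτ]; exact not_isTv_graph
  obtain ⟨hdisj, hor⟩ := semi_or_of_graph ⟨eI 0, 1, eI_ne_zero 0, one_ne_zero, rfl⟩ hnt
  let φ : F ≃+* F := frobeniusEquiv F 2
  have hsq : AutPSL.Induced (rho 2 F) 1 φ (τ * τ) := by
    intro s s' hs
    show τ (τ (pi 2 F s)) = pi 2 F s'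
    rw [hτ, hτ, graph_graph]
    congr 1
    apply rho_injective
    rw [hs, AutPSL.act_apply, one_mul, inv_one, mul_one]
    exact Units.ext rfl
  have hpow : ∀ k : ℕ, AutPSL.Induced (rho 2 F) 1 (φ ^ k) ((τ * τ) ^ k) := by
    intro k
    induction k with
    | zero => simpa using AutPSL.induced_one' (rho_injective (m := 2) (F := F))
    | succ k ih =>
      have := AutPSL.Induced.comp (normalises one_mem_GSp φ) ih hsq
      simpa [pow_succ] using this
  have hinner : ∀ {g : GL (Fin 2 ⊕ Fin 2) F} {β : MulAut (Cfsg.PSp 2 F)}, g ∈ Cfsg.GSp 2 F →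
      AutPSL.Induced (rho 2 F) g 1 β → β ∈ Cfsg.Inn (Cfsg.PSp 2 F) := by
    intro g β ⟨μ, hμ⟩ hb
    obtain ⟨d, hd⟩ := exists_sq (μ : F)
    have hd0 : d ≠ 0 := fun h => μ.ne_zero (by rw [hd, h, mul_zero])
    have hmem : d⁻¹ • (g : Matrix (Fin 2 ⊕ Fin 2) (Fin 2 ⊕ Fin 2) F) ∈
        Matrix.symplecticGroup (Fin 2) F := (mem_iff_form _).2 fun x y => by
      rw [Matrix.smul_mulVec, Matrix.smul_mulVec, sympForm_smul_left, sympForm_smul_right, hμ, hd]
      field_simp
    set s : Sp 2 F := ⟨_, hmem⟩ with hs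
    have hb' := induced_smul (g := g) (g' := rho 2 F s) (inv_ne_zero hd0) rfl hb
    refine ⟨pi 2 F s, MulEquiv.ext fun x => ?_⟩
    obtain ⟨t, rfl⟩ := QuotientGroup.mk_surjective x
    rw [hb' t (s * t * s⁻¹) (by rw [AutPSL.act_apply, AutPSL.fieldMap_one, map_mul, map_mul, map_inv])]
    rfl
  have hgal : ∀ σ : F ≃+* F, ∃ k : ℕ, σ = φ ^ k := by
    intro σ
    letI : Algebra (ZMod 2) F := ZMod.algebra F 2
    obtain ⟨k, hk⟩ := (FiniteField.bijective_frobeniusAlgEquivOfAlgebraic_pow (ZMod 2) F).2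
      (AlgEquiv.ofRingEquiv (f := σ) fun r => RingHom.congr_fun (RingHom.ext_zmod
        ((σ : F →+* F).comp (algebraMap (ZMod 2) F)) (algebraMap (ZMod 2) F)) r)
    refine ⟨k, RingEquiv.ext fun x => ?_⟩
    have hgen : ∀ j : ℕ, ∀ y : F,
        (FiniteField.frobeniusAlgEquivOfAlgebraic (ZMod 2) F ^ j) y = (φ ^ j) y := by
      intro j
      induction j with
      | zero => intro y; rfl
      | succ j ih =>
        intro y
        rw [pow_succ, pow_succ, AlgEquiv.mul_apply, RingAut.mul_apply, ← ih]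
        congr 1
    exact ((hgen k x).symm.trans (DFunLike.congr_fun hk x)).symm
  have hsemi : ∀ β, IsSemiSp β → ∃ k : ℕ, ((τ * τ) ^ k)⁻¹ * β ∈ Cfsg.Inn (Cfsg.PSp 2 F) := by
    rintro β ⟨g, σ, hg, hb⟩
    obtain ⟨k, rfl⟩ := hgal σ
    obtain ⟨γ, hγ⟩ := AutPSL.exists_induced (rho_injective (m := 2) (F := F)) (normalises hg 1)
    have h2 := AutPSL.Induced.comp (normalises one_mem_GSp (φ ^ k)) hγ (hpow k)
    rw [map_one, mul_one, one_mul] at h2
    have : β = γ * (τ * τ) ^ k := AutPSL.Induced.ext (normalises hg _) hb h2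
    exact ⟨k, by
      rw [this, ← mul_assoc]
      have := (inferInstance : (Cfsg.Inn (Cfsg.PSp 2 F)).Normal).conj_mem γ (hinner hg hγ)
        ((τ * τ) ^ k)⁻¹
      simpa [mul_assoc] using this⟩
  constructor
  · refine ⟨⟨QuotientGroup.mk τ, fun x => ?_⟩⟩
    obtain ⟨α, rfl⟩ := QuotientGroup.mk_surjective x
    have key : ∀ β, IsSemiSp β → (QuotientGroup.mk β : Cfsg.Out (Cfsg.PSp 2 F)) ∈
        Subgroup.zpowers (QuotientGroup.mk τ) := by
      intro β hβ
      obtain ⟨k, hk⟩ := hsemi β hβ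
      rw [← (QuotientGroup.eq.2 hk : (QuotientGroup.mk ((τ * τ) ^ k) : Cfsg.Out (Cfsg.PSp 2 F)) = _)]
      exact pow_mem (mul_mem (Subgroup.mem_zpowers _) (Subgroup.mem_zpowers _)) _
    rcases hor α with h | h
    · exact key _ h
    · have := mul_mem (Subgroup.mem_zpowers (QuotientGroup.mk τ : Cfsg.Out (Cfsg.PSp 2 F))) (key _ h)
      rwa [← QuotientGroup.mk_mul, mul_inv_cancel_left] at this
  · have hA : Nat.card (MulAut (Cfsg.PSp 2 F)) =
        2 * Nat.card {β : MulAut (Cfsg.PSp 2 F) // IsSemiSp β} := by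
      let Φ : Bool × {β : MulAut (Cfsg.PSp 2 F) // IsSemiSp β} → MulAut (Cfsg.PSp 2 F) :=
        fun p => (if p.1 then τ else 1) * p.2.1
      rw [← Nat.card_eq_of_bijective Φ ⟨?_, ?_⟩, Nat.card_prod, Nat.card_eq_fintype_card (α := Bool),
        Fintype.card_bool]
      · rintro ⟨a, β⟩ ⟨b, γ⟩ h
        cases a <;> cases b <;> simp only [Φ, Bool.false_eq_true, if_false, if_true, one_mul] at h
        · rw [Subtype.ext h]
        · exact absurd (h ▸ β.2) (hdisj _ γ.2)
        · exact absurd (h ▸ γ.2) (hdisj _ β.2)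
        · rw [Subtype.ext (mul_left_cancel h)]
      · intro α
        rcases hor α with h | h
        · exact ⟨(false, ⟨α, h⟩), one_mul α⟩
        · exact ⟨(true, ⟨_, h⟩), mul_inv_cancel_left τ α⟩
    have hinj : Function.Injective (MulAut.conj : Cfsg.PSp 2 F →* MulAut (Cfsg.PSp 2 F)) := by
      intro a b h
      obtain ⟨s, rfl⟩ := e.surjective a
      obtain ⟨t, rfl⟩ := e.surjective b
      have hc : t⁻¹ * s ∈ Subgroup.center (Sp 2 F) := Subgroup.mem_center_iff.2 fun u => e.injective (by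
        have h' := congrArg (fun γ : MulAut (Cfsg.PSp 2 F) => γ (e u)) h
        simp only [MulAut.conj_apply] at h'
        rw [map_mul, map_mul, map_mul, map_mul, map_inv]
        calc e u * ((e t)⁻¹ * e s) = (e t)⁻¹ * (e t * e u * (e t)⁻¹) * e s := by group
          _ = (e t)⁻¹ * (e s * e u * (e s)⁻¹) * e s := by rw [h']
          _ = (e t)⁻¹ * e s * e u := by group)
      rcases mem_center_iff.1 hc with h1 | h1
      · rw [inv_mul_eq_one.1 h1]
      · rw [inv_mul_eq_one.1 (h1.trans negOne_eq_one)]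
    have hI : Nat.card (Cfsg.Inn (Cfsg.PSp 2 F)) = Nat.card (Sp 2 F) :=
      (Nat.card_congr (MonoidHom.ofInjective hinj).toEquiv).symm.trans (Nat.card_congr e.toEquiv).symm
    have h := Subgroup.card_eq_card_quotient_mul_card_subgroup (Cfsg.Inn (Cfsg.PSp 2 F))
    rw [hA, card_semiSp (by norm_num), hI,
      card_fieldAut 2 f (by rw [← hF, Nat.card_eq_fintype_card])] at h
    refine Nat.eq_of_mul_eq_mul_right (Nat.card_pos (α := Sp 2 F)) ?_
    rw [show 2 * f * Nat.card (Sp 2 F) = 2 * (Nat.card (Sp 2 F) * f) by ring]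
    exact h.symm

end Cfsg.Agent.CG26.AutPSp
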